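import Groth.Agent.Depth99.Basic
import Groth.Agent.TF3.DualLoc
import Groth.Agent.TF3.Bidual

universe u

open Module

namespace Groth.Agent.Depth99

variable {A : Type u} [CommRing A] [IsNoetherianRing A]

theorem subsingleton_of_depth_pos (I : Ideal A) {T : Type u} [AddCommGroup T] [Module A T] [Module.Finite A T]
    (hsupp : ∀ p ∈ Module.support A T, I ≤ p.asIdeal) (h : ((1 : ℕ) : ℕ∞) ≤ LocCoh.idealDepth I T) :
    Subsingleton T := by
  obtain ⟨x, hx, hreg⟩ := LC15.exists_regular_of_idealDepth_pos I h
  have hrad : x ∈ (Module.annihilator A T).radical := by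
    rw [Ideal.radical_eq_sInf, Ideal.mem_sInf]
    rintro P ⟨hP, hPp⟩
    exact hsupp ⟨P, hPp⟩ (Module.mem_support_iff_of_finite.mpr hP) hx
  obtain ⟨n, hn⟩ := hrad
  refine subsingleton_of_forall_eq 0 fun t => hreg.pow n ?_
  show x ^ n • t = x ^ n • (0 : T)
  rw [Module.mem_annihilator.mp hn, smul_zero]

theorem isReflexive_of_depth (I : Ideal A) (hA : 1 ≤ LocCoh.idealDepth I A)
    (G : Type u) [AddCommGroup G] [Module A G] [Module.Finite A G]
    (hU : ∀ p : PrimeSpectrum A, ¬ I ≤ p.asIdeal →
      Module.IsReflexive (Localization.AtPrime p.asIdeal) (LocalizedModule p.asIdeal.primeCompl G))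
    (hG : 2 ≤ LocCoh.idealDepth I G) : Module.IsReflexive A G := by
  haveI : Module.Finite A (Module.Dual A G) := TF3.finite_dual
  haveI : Module.Finite A (Module.Dual A (Module.Dual A G)) := TF3.finite_dual
  set ev := Module.Dual.eval A G with hev
  have hbij : ∀ p : PrimeSpectrum A, ¬ I ≤ p.asIdeal → Function.Bijective (LocalizedModule.map p.asIdeal.primeCompl ev) :=
    fun p hp => (TF3.localized_eval_bijective_iff p.asIdeal).mpr (hU p hp)
  haveI hK : Subsingleton (LinearMap.ker ev) := by
    refine subsingleton_of_depth_pos I (fun p hp => ?_)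
      (idealDepth_pos_of_injective I (LinearMap.ker ev).subtype Subtype.val_injective
        (le_trans (by norm_num) hG))
    by_contra hI
    have hinj : Function.Injective (LocalizedModule.map p.asIdeal.primeCompl (LinearMap.ker ev).subtype) :=
      LocalizedModule.map_injective _ _ Subtype.val_injective
    have hex : Function.Exact (LocalizedModule.map p.asIdeal.primeCompl (LinearMap.ker ev).subtype)
        (LocalizedModule.map p.asIdeal.primeCompl ev) :=
      LocalizedModule.map_exact _ _ _ (LinearMap.exact_iff.mpr (by simp))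
    refine (Module.notMem_support_iff.mpr (subsingleton_of_forall_eq 0 fun z => hinj ?_)) hp
    rw [map_zero]
    apply (hbij p hI).1
    rw [map_zero]
    exact hex.apply_apply_eq_zero z
  have hinj : Function.Injective ev := LinearMap.ker_eq_bot.mp (Submodule.eq_bot_of_subsingleton)
  let π := (LinearMap.range ev).mkQ
  have hex : Function.Exact ev π := LinearMap.exact_iff.mpr (by simp [π])
  have hA' : ((1 : ℕ) : ℕ∞) ≤ LocCoh.idealDepth I (Module.Dual A (Module.Dual A G)) :=
    idealDepth_hom I (Module.Dual A G) A (k := 1) (by norm_num) (by exact_mod_cast hA)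
  haveI hC : Subsingleton ((Module.Dual A (Module.Dual A G)) ⧸ LinearMap.range ev) := by
    refine subsingleton_of_depth_pos I (fun p hp => ?_) ?_
    · by_contra hI
      have hexl : Function.Exact (LocalizedModule.map p.asIdeal.primeCompl ev)
          (LocalizedModule.map p.asIdeal.primeCompl π) := LocalizedModule.map_exact _ _ _ hex
      refine (Module.notMem_support_iff.mpr (subsingleton_of_forall_eq 0 fun z => ?_)) hp
      obtain ⟨y, rfl⟩ := LocalizedModule.map_surjective p.asIdeal.primeCompl π (Submodule.mkQ_surjective _) z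
      obtain ⟨w, rfl⟩ := (hbij p hI).2 y
      exact hexl.apply_apply_eq_zero w
    · refine le_trans (le_min hA' ?_)
        (LC15.idealDepth_shortExact (I := I) (f := ev) (g := π) hinj (Submodule.mkQ_surjective _) hex).2.1
      generalize LocCoh.idealDepth I G = d at hG ⊢
      induction d using ENat.recTopCoe with
      | top => simp
      | coe m => norm_cast at hG ⊢; omega
  exact ⟨hinj, LinearMap.range_eq_top.mp (Submodule.Quotient.subsingleton_iff.mp hC)⟩

noncomputable def selfLocEquiv (p : Ideal A) [p.IsPrime] :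
    LocalizedModule p.primeCompl A ≃ₗ[Localization.AtPrime p] Localization.AtPrime p :=
  LinearEquiv.extendScalarsOfIsLocalization p.primeCompl (Localization.AtPrime p)
    (IsLocalizedModule.iso p.primeCompl (Algebra.linearMap A (Localization.AtPrime p)))

theorem supportDim_self_loc (p : Ideal A) [p.IsPrime] :
    Module.supportDim (Localization.AtPrime p) (LocalizedModule p.primeCompl A) = (p.height : WithBot ℕ∞) := by
  rw [Module.supportDim_eq_of_equiv (selfLocEquiv p), Module.supportDim_self_eq_ringKrullDim,
    IsLocalization.AtPrime.ringKrullDim_eq_height p (Localization.AtPrime p)]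

theorem reflexive_iff_depth (hA : LocCoh.HasSk 2 A A) (I : Ideal A) (hI : 2 ≤ I.height)
    (G : Type u) [AddCommGroup G] [Module A G] [Module.Finite A G]
    (hU : ∀ p : PrimeSpectrum A, ¬ I ≤ p.asIdeal →
      Module.IsReflexive (Localization.AtPrime p.asIdeal) (LocalizedModule p.asIdeal.primeCompl G)) :
    ((LocCoh.HasSk 2 A G ∧ ∀ p : PrimeSpectrum A, I ≤ p.asIdeal → p ∈ Module.support A G →
        (2 : WithBot ℕ∞) ≤ Module.supportDim (Localization.AtPrime p.asIdeal) (LocalizedModule p.asIdeal.primeCompl G)) ↔
      2 ≤ LocCoh.idealDepth I G) ∧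
    (2 ≤ LocCoh.idealDepth I G ↔ Module.IsReflexive A G) := by
  have hIA : ((2 : ℕ) : ℕ∞) ≤ LocCoh.idealDepth I A := by
    refine le_idealDepth_of_hasSk 2 A I hA fun p hp _ => ?_
    rw [supportDim_self_loc]
    exact WithBot.coe_le_coe.mpr (le_trans hI (Ideal.height_mono hp))
  have h21 : 2 ≤ LocCoh.idealDepth I G → Module.IsReflexive A G :=
    isReflexive_of_depth I (le_trans (by norm_num) hIA) G hU
  refine ⟨⟨fun ⟨hS, hc⟩ => ?_, fun h => ⟨fun p hp => ?_, fun p hp hs => ?_⟩⟩, h21, fun h => ?_⟩
  · exact_mod_cast le_idealDepth_of_hasSk 2 G I hS (fun p hp hs => by exact_mod_cast hc p hp hs)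
  · haveI := h21 h
    exact (idealDepth_of_isReflexive I G).2.2.2 hA p
  · exact le_trans (WithBot.coe_le_coe.mpr h) (idealDepth_le_supportDim I p hp hs)
  · exact (idealDepth_of_isReflexive I G).2.1 (by exact_mod_cast hIA)

end Groth.Agent.Depth99
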