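import Groth.Agent.Depth99.ProjFib
import Groth.Agent.Depth99.Reflexive
import Groth.Agent.FlatCrit65.FlatLocus.Kernels
import Mathlib.RingTheory.Flat.Localization

universe u

open TensorProduct IsLocalRing

namespace Groth.Agent.Depth99

/-- flatness at every prime gives flatness -/
theorem flat_of_flatAt {A B : Type u} [CommRing A] [CommRing B] [Algebra A B] (M : Type u) [AddCommGroup M]
    [Module A M] [Module B M] [IsScalarTower A B M] (h : ∀ q : PrimeSpectrum B, FlatCA.FlatAt A q.asIdeal M) :
    Module.Flat A M := by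
  rw [Module.Flat.iff_lTensor_injective']
  intro I
  rw [injective_iff_map_eq_zero]
  intro z hz
  have htop : LinearMap.ker (LinearMap.toSpanSingleton B (M ⊗[A] I) z) = ⊤ := by
    by_contra hne
    obtain ⟨P, hP, hle⟩ := Ideal.exists_le_maximal _ hne
    obtain ⟨s, hs, hsz⟩ :=
      (FlatCrit65.flat_localized_iff_kernels P).mp (h ⟨P, hP.isPrime⟩) I z hz
    exact hs (hle (by simpa using hsz))
  have h1 : (1 : B) ∈ LinearMap.ker (LinearMap.toSpanSingleton B (M ⊗[A] I) z) := htop ▸ Submodule.mem_top
  simpa using h1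

theorem bc_ker (A B : Type u) [CommRing A] [CommRing B] [IsNoetherianRing A] [IsNoetherianRing B] [Algebra A B]
    (A' B' : Type u) [CommRing A'] [CommRing B'] [IsNoetherianRing A'] [IsNoetherianRing B']
    [Algebra A A'] [Algebra B B'] [Algebra A' B'] [Algebra A B'] [IsScalarTower A B B'] [IsScalarTower A A' B']
    [Algebra.IsPushout A B A' B'] [Module.Flat A B] (J : Ideal B)
    (hZ : ∀ q : PrimeSpectrum B, J ≤ q.asIdeal →
      2 ≤ LocCoh.idealDepth (q.asIdeal.map (algebraMap B (EGA4.FibLocRing A B q.asIdeal))) (EGA4.FibLocRing A B q.asIdeal))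
    (F E0 E1 G : Type u) [AddCommGroup F] [Module B F] [Module.Finite B F]
    [AddCommGroup E0] [Module B E0] [Module.Finite B E0] [Module.Projective B E0]
    [AddCommGroup E1] [Module B E1] [Module.Finite B E1] [Module.Projective B E1]
    [AddCommGroup G] [Module B G] [Module.Finite B G]
    (f : F →ₗ[B] E0) (u : E0 →ₗ[B] E1) (v : E1 →ₗ[B] G)
    (hf : Function.Injective f) (hfu : Function.Exact f u) (huv : Function.Exact u v) (hv : Function.Surjective v)
    (hFU : ∀ q : PrimeSpectrum B, ¬ J ≤ q.asIdeal → Module.Free (Localization.AtPrime q.asIdeal) (LocalizedModule q.asIdeal.primeCompl F))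
    (hGU : ∀ q : PrimeSpectrum B, ¬ J ≤ q.asIdeal → Module.Free (Localization.AtPrime q.asIdeal) (LocalizedModule q.asIdeal.primeCompl G)) :
    Module.IsReflexive B F ∧
    Module.IsReflexive B' (LinearMap.ker (u.baseChange B')) ∧
    2 ≤ LocCoh.idealDepth (J.map (algebraMap B B')) (LinearMap.ker (u.baseChange B')) ∧
    ((∀ q' : PrimeSpectrum B', FlatCA.FlatAt A' q'.asIdeal (LinearMap.ker (u.baseChange B')) ∧
        2 ≤ LocCoh.idealDepth ((J.map (algebraMap B B')).map (algebraMap B' (EGA4.FibLocRing A' B' q'.asIdeal)))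
          (EGA4.FibLocMod A' B' q'.asIdeal (LinearMap.ker (u.baseChange B')))) ↔
      Module.Flat A' (B' ⊗[B] G)) := by
  obtain ⟨hflat, hZ', hJB'⟩ := idealDepth_baseChange_self (A' := A') (B' := B') J 2 hZ
  have hJB : 2 ≤ LocCoh.idealDepth J B := idealDepth_self_of_fibres (A := A) J 2 hZ
  set J' := J.map (algebraMap B B') with hJ'
  refine ⟨?_, ?_⟩
  · have h2 : 2 ≤ LocCoh.idealDepth J F := by
      have : Module.IsReflexive B E0 := inferInstance
      rw [LC17.idealDepth_congr J ((LinearEquiv.ofInjective f hf).trans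
        (LinearEquiv.ofEq _ _ (LinearMap.exact_iff.mp hfu).symm))]
      exact (idealDepth_ker J u).2 ((idealDepth_of_isReflexive J E0).2.1 hJB)
        ((idealDepth_of_isReflexive J E1).1 (le_trans (by norm_num) hJB))
    refine isReflexive_of_depth J (le_trans (by norm_num) hJB) F (fun p hp => ?_) h2
    have := hFU p hp
    have : Module.Finite (Localization.AtPrime p.asIdeal) (LocalizedModule p.asIdeal.primeCompl F) :=
      Module.Finite.of_isLocalizedModule p.asIdeal.primeCompl (LocalizedModule.mkLinearMap p.asIdeal.primeCompl F)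
    infer_instance
  set u' := u.baseChange B' with hu'
  set v' := v.baseChange B' with hv'
  have hv's : Function.Surjective v' := LinearMap.lTensor_surjective B' hv
  have hu'v' : Function.Exact u' v' := lTensor_exact B' huv hv
  have hKd : 2 ≤ LocCoh.idealDepth J' (LinearMap.ker u') :=
    (idealDepth_ker J' u').2 ((idealDepth_of_isReflexive J' _).2.1 hJB')
      ((idealDepth_of_isReflexive J' _).1 (le_trans (by norm_num) hJB'))
  have hG' : ∀ q' : PrimeSpectrum B', ¬ J' ≤ q'.asIdeal →
      Module.Free (Localization.AtPrime q'.asIdeal) (LocalizedModule q'.asIdeal.primeCompl (B' ⊗[B] G)) := fun q' hq => by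
    have := hGU ⟨q'.asIdeal.comap (algebraMap B B'), inferInstance⟩ fun h => hq (Ideal.map_le_iff_le_comap.mpr h)
    exact free_loc_baseChange G q'.asIdeal
  have hK' : ∀ q' : PrimeSpectrum B', ¬ J' ≤ q'.asIdeal →
      Module.Free (Localization.AtPrime q'.asIdeal) (LocalizedModule q'.asIdeal.primeCompl (LinearMap.ker u')) :=
    fun q' hq => by
    have := hG' q' hq
    exact free_ker_loc u' v' hu'v' hv's q'.asIdeal
  refine ⟨?_, hKd, ?_⟩
  · refine isReflexive_of_depth J' (le_trans (by norm_num) hJB') _ (fun p hp => ?_) hKd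
    have := hK' p hp
    have : Module.Finite (Localization.AtPrime p.asIdeal) (LocalizedModule p.asIdeal.primeCompl (LinearMap.ker u')) :=
      Module.Finite.of_isLocalizedModule p.asIdeal.primeCompl (LocalizedModule.mkLinearMap p.asIdeal.primeCompl _)
    infer_instance
  have : Module.Flat A' B' := hflat
  have : Module.Flat A' (B' ⊗[B] E0) := Module.Flat.trans A' B' _
  have : Module.Flat A' (B' ⊗[B] E1) := Module.Flat.trans A' B' _
  have hGflat : ∀ q' : PrimeSpectrum B', ¬ J' ≤ q'.asIdeal → FlatCA.FlatAt A' q'.asIdeal (B' ⊗[B] G) :=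
    fun q' hq => by
    have := hG' q' hq
    have : Module.Flat A' (Localization.AtPrime q'.asIdeal) := Module.Flat.trans A' B' _
    exact Module.Flat.trans A' (Localization.AtPrime q'.asIdeal) _
  have key : ∀ q' : PrimeSpectrum B',
      (2 ≤ LocCoh.idealDepth (J'.map (algebraMap B' (EGA4.FibLocRing A' B' q'.asIdeal)))
          (EGA4.FibLocMod A' B' q'.asIdeal (LinearMap.ker u')) ↔ FlatCA.FlatAt A' q'.asIdeal (B' ⊗[B] G)) ∧
      (FlatCA.FlatAt A' q'.asIdeal (B' ⊗[B] G) → FlatCA.FlatAt A' q'.asIdeal (LinearMap.ker u')) := by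
    intro q'
    refine four_term_loc q'.asIdeal J' (LinearMap.ker u').subtype u' v' Subtype.val_injective
      (LinearMap.exact_iff.mpr (by simp)) hu'v' hv's hGflat ?_ ?_
    · exact le_idealDepth_fibLocMod q'.asIdeal J' _ 2 fun q hq => (hZ' q hq).trans (fibre_depth_projective q _)
    · exact le_idealDepth_fibLocMod q'.asIdeal J' _ 1 fun q hq =>
        (le_trans (by norm_num) (hZ' q hq)).trans (fibre_depth_projective q _)
  constructor
  · intro h
    exact flat_of_flatAt _ fun q' => (key q').1.mp (h q').2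
  · intro h q'
    have hfl : FlatCA.FlatAt A' q'.asIdeal (B' ⊗[B] G) := EGA4H10.flat_localizedModule _ q'.asIdeal.primeCompl
    exact ⟨(key q').2 hfl, (key q').1.mpr hfl⟩

end Groth.Agent.Depth99
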