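import Groth.Prelude.Def_CAlg
import Groth.Agent.LC17.DepthLoc
import Groth.Agent.LC15.DepthSeq
import Groth.Agent.EGA4Alg4.DepthChange
import Groth.Agent.TF3.Depth

universe u

open Module

namespace Groth.Agent.Depth99

variable {A : Type u} [CommRing A] [IsNoetherianRing A]

theorem idealDepth_pos_of_injective (I : Ideal A) {N N' : Type u} [AddCommGroup N] [Module A N]
    [Module.Finite A N] [AddCommGroup N'] [Module A N'] [Module.Finite A N'] (f : N →ₗ[A] N')
    (hf : Function.Injective f) (h : ((1 : ℕ) : ℕ∞) ≤ LocCoh.idealDepth I N') :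
    ((1 : ℕ) : ℕ∞) ≤ LocCoh.idealDepth I N := by
  obtain ⟨x, hx, hreg⟩ := LC15.exists_regular_of_idealDepth_pos I h
  have hx' : IsSMulRegular N x := fun a b hab => hf (hreg (by
    simpa only [map_smul] using congrArg f hab))
  rw [LC17.natCast_succ_le_idealDepth_iff I hx hx' 0]
  simp

theorem idealDepth_ker (I : Ideal A) {E0 E1 : Type u} [AddCommGroup E0] [Module A E0] [Module.Finite A E0]
    [AddCommGroup E1] [Module A E1] [Module.Finite A E1] (u : E0 →ₗ[A] E1) :
    (1 ≤ LocCoh.idealDepth I E0 → 1 ≤ LocCoh.idealDepth I (LinearMap.ker u)) ∧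
    (2 ≤ LocCoh.idealDepth I E0 → 1 ≤ LocCoh.idealDepth I E1 → 2 ≤ LocCoh.idealDepth I (LinearMap.ker u)) := by
  constructor
  · intro h
    exact_mod_cast idealDepth_pos_of_injective I (LinearMap.ker u).subtype Subtype.val_injective
      (by exact_mod_cast h)
  · intro h0 h1
    have hr := idealDepth_pos_of_injective I (LinearMap.range u).subtype Subtype.val_injective
      (by exact_mod_cast h1)
    have h := (LC15.idealDepth_shortExact (I := I) (f := (LinearMap.ker u).subtype) (g := u.rangeRestrict)
      Subtype.val_injective u.surjective_rangeRestrict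
      (LinearMap.exact_iff.mpr (by rw [Submodule.range_subtype, LinearMap.ker_rangeRestrict]))).2.2
    refine le_trans (le_min h0 ?_) h
    calc (2 : ℕ∞) = ((1 : ℕ) : ℕ∞) + 1 := by norm_num
      _ ≤ _ := add_le_add_left hr 1

theorem idealDepth_le_supportDim (I : Ideal A) {M : Type u} [AddCommGroup M] [Module A M] [Module.Finite A M]
    (p : PrimeSpectrum A) (hIp : I ≤ p.asIdeal) (hp : p ∈ Module.support A M) :
    ((LocCoh.idealDepth I M : ℕ∞) : WithBot ℕ∞) ≤
      Module.supportDim (Localization.AtPrime p.asIdeal) (LocalizedModule p.asIdeal.primeCompl M) := by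
  have : IsNoetherianRing (Localization.AtPrime p.asIdeal) :=
    IsLocalization.isNoetherianRing p.asIdeal.primeCompl _ inferInstance
  have : Nontrivial (LocalizedModule p.asIdeal.primeCompl M) := hp
  exact le_trans (WithBot.coe_le_coe.mpr (LC17.idealDepth_le_depth_loc p.asIdeal hIp))
    EGA4Alg4.depth_le_supportDim

theorem le_idealDepth_of_hasSk (k : ℕ) (M : Type u) [AddCommGroup M] [Module A M] [Module.Finite A M] (I : Ideal A)
    (hS : LocCoh.HasSk k A M)
    (hcodim : ∀ p : PrimeSpectrum A, I ≤ p.asIdeal → p ∈ Module.support A M →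
      (k : WithBot ℕ∞) ≤ Module.supportDim (Localization.AtPrime p.asIdeal) (LocalizedModule p.asIdeal.primeCompl M)) :
    (k : ℕ∞) ≤ LocCoh.idealDepth I M := by
  rw [LC17.idealDepth_eq_iInf]
  refine le_iInf₂ fun q hq => ?_
  have : IsNoetherianRing (Localization.AtPrime q.asIdeal) :=
    IsLocalization.isNoetherianRing q.asIdeal.primeCompl _ inferInstance
  by_cases hqs : q ∈ Module.support A M
  · have h := hS q.asIdeal
    rw [min_eq_left (hcodim q hq hqs)] at h
    exact_mod_cast h
  · haveI := Module.notMem_support_iff.mp hqs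
    rw [EGA4Alg4.depth_of_subsingleton]
    exact le_top

theorem supportDim_loc_le {K E : Type u} [AddCommGroup K] [Module A K] [Module.Finite A K]
    [AddCommGroup E] [Module A E] [Module.Finite A E] (h : Module.support A K ⊆ Module.support A E)
    (p : Ideal A) [p.IsPrime] :
    Module.supportDim (Localization.AtPrime p) (LocalizedModule p.primeCompl K) ≤
      Module.supportDim (Localization.AtPrime p) (LocalizedModule p.primeCompl E) := by
  refine Order.krullDim_le_of_strictMono (Set.inclusion ?_) fun a b hab => hab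
  intro Q hQ
  rw [Module.mem_support_iff_of_finite] at hQ ⊢
  intro s hs
  obtain ⟨⟨a, t⟩, rfl⟩ : ∃ x : A × p.primeCompl, IsLocalization.mk' (Localization.AtPrime p) x.1 x.2 = s := by
    obtain ⟨a, t, hat⟩ := IsLocalization.exists_mk'_eq p.primeCompl s
    exact ⟨⟨a, t⟩, hat⟩
  obtain ⟨n, g, hg⟩ := Module.Finite.exists_fin (R := A) (M := E)
  have hk : ∀ i, ∃ c : p.primeCompl, (c : A) • a • g i = 0 := by
    intro i
    have h1 := Module.mem_annihilator.mp hs (LocalizedModule.mk (g i) 1)
    rw [IsLocalization.mk'_eq_mul_mk'_one, mul_smul, ← Localization.mk_eq_mk', LocalizedModule.mk_smul_mk,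
      one_smul, mul_one, algebraMap_smul, LocalizedModule.smul'_mk] at h1
    obtain ⟨c, hc⟩ := LocalizedModule.mk_eq.mp (h1.trans (LocalizedModule.zero_mk t).symm)
    refine ⟨c * t, ?_⟩
    simpa [Submonoid.smul_def, mul_smul] using hc
  choose c hc using hk
  have hann : ((∏ i, c i : p.primeCompl) : A) * a ∈ Module.annihilator A E := by
    rw [← Submodule.annihilator_top, ← hg, Submodule.annihilator_span]
    simp only [Submodule.mem_iInf, LinearMap.mem_ker, LinearMap.toSpanSingleton_apply]
    rintro ⟨_, i, rfl⟩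
    change (((∏ i, c i : p.primeCompl) : A) * a) • g i = 0
    rw [← Finset.mul_prod_erase Finset.univ c (Finset.mem_univ i), mul_smul, Submonoid.coe_mul,
      mul_comm, mul_smul, hc, smul_zero]
  have hrad : ((∏ i, c i : p.primeCompl) : A) * a ∈ (Module.annihilator A K).radical := by
    rw [Ideal.radical_eq_sInf, Ideal.mem_sInf]
    rintro P ⟨hP, hPp⟩
    have : (⟨P, hPp⟩ : PrimeSpectrum A) ∈ Module.support A E :=
      h (Module.mem_support_iff_of_finite.mpr hP)
    exact Module.mem_support_iff_of_finite.mp this hann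
  obtain ⟨m, hm⟩ := hrad
  have hQm : algebraMap A (Localization.AtPrime p) ((((∏ i, c i : p.primeCompl) : A) * a) ^ m) ∈ Q.asIdeal := by
    apply hQ
    rw [Module.mem_annihilator]
    intro z
    induction z using LocalizedModule.induction_on with
    | _ x u => rw [algebraMap_smul, LocalizedModule.smul'_mk, Module.mem_annihilator.mp hm, LocalizedModule.zero_mk]
  rw [map_pow] at hQm
  have hQ1 := Q.isPrime.mem_of_pow_mem m hQm
  rw [map_mul] at hQ1
  rcases Q.isPrime.mem_or_mem hQ1 with h2 | h2
  · exact absurd (Ideal.eq_top_of_isUnit_mem _ h2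
      (IsLocalization.map_units (Localization.AtPrime p) (∏ i, c i))) Q.isPrime.ne_top
  · rw [IsLocalization.mk'_eq_mul_mk'_one]
    exact Ideal.mul_mem_right _ _ h2

theorem coe_le_of_lt_one {d : WithBot ℕ∞} (h : d < 1) (a : ℕ∞) : d ≤ (a : WithBot ℕ∞) := by
  induction d using WithBot.recBotCoe with
  | bot => exact bot_le
  | coe d =>
    rw [← WithBot.coe_one, WithBot.coe_lt_coe] at h
    exact WithBot.coe_le_coe.mpr (le_trans (ENat.lt_one_iff_eq_zero.mp h).le bot_le)

theorem coe_le_of_lt_two {d : WithBot ℕ∞} (h : d < 2) {a : ℕ∞} (ha : 1 ≤ a) : d ≤ (a : WithBot ℕ∞) := by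
  induction d using WithBot.recBotCoe with
  | bot => exact bot_le
  | coe d =>
    have h' : d < 2 := WithBot.coe_lt_coe.mp h
    refine WithBot.coe_le_coe.mpr (le_trans ?_ ha)
    induction d using ENat.recTopCoe with
    | top => simp at h'
    | coe m => norm_cast at h' ⊢; omega

theorem hasSk_ker {E0 E1 : Type u} [AddCommGroup E0] [Module A E0] [Module.Finite A E0]
    [AddCommGroup E1] [Module A E1] [Module.Finite A E1] (u : E0 →ₗ[A] E1) :
    (LocCoh.HasSk 1 A E0 → LocCoh.HasSk 1 A (LinearMap.ker u)) ∧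
    (Module.support A (LinearMap.ker u) ⊆ Module.support A E1 → LocCoh.HasSk 1 A E1 → LocCoh.HasSk 2 A E0 →
      LocCoh.HasSk 2 A (LinearMap.ker u)) := by
  have key : ∀ (p : Ideal A) [p.IsPrime],
      Module.supportDim (Localization.AtPrime p) (LocalizedModule p.primeCompl (LinearMap.ker u)) ≤
        Module.supportDim (Localization.AtPrime p) (LocalizedModule p.primeCompl E0) ∧
      ((1 ≤ LocCoh.depth (Localization.AtPrime p) (LocalizedModule p.primeCompl E0) →
          1 ≤ LocCoh.depth (Localization.AtPrime p) (LocalizedModule p.primeCompl (LinearMap.ker u))) ∧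
      (2 ≤ LocCoh.depth (Localization.AtPrime p) (LocalizedModule p.primeCompl E0) →
          1 ≤ LocCoh.depth (Localization.AtPrime p) (LocalizedModule p.primeCompl E1) →
          2 ≤ LocCoh.depth (Localization.AtPrime p) (LocalizedModule p.primeCompl (LinearMap.ker u)))) := by
    intro p _
    have : IsNoetherianRing (Localization.AtPrime p) :=
      IsLocalization.isNoetherianRing p.primeCompl _ inferInstance
    let ι := LocalizedModule.map p.primeCompl (LinearMap.ker u).subtype
    let v := LocalizedModule.map p.primeCompl u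
    have hinj : Function.Injective ι := LocalizedModule.map_injective _ _ Subtype.val_injective
    have hex : Function.Exact ι v := LocalizedModule.map_exact _ _ _ (LinearMap.exact_iff.mpr (by simp))
    let e : LocalizedModule p.primeCompl (LinearMap.ker u) ≃ₗ[Localization.AtPrime p] LinearMap.ker v :=
      (LinearEquiv.ofInjective ι hinj).trans (LinearEquiv.ofEq _ _ (LinearMap.exact_iff.mp hex).symm)
    refine ⟨Module.supportDim_le_of_injective ι hinj, ?_⟩
    rw [EGA4Alg4.depth_eq_of_equiv e]
    exact idealDepth_ker (IsLocalRing.maximalIdeal _) v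
  refine ⟨fun h p hp => ?_, fun hsup h1 h0 p hp => ?_⟩
  · obtain ⟨hd, hk1, -⟩ := key p
    set d := Module.supportDim (Localization.AtPrime p) (LocalizedModule p.primeCompl (LinearMap.ker u))
    by_cases hd1 : (1 : WithBot ℕ∞) ≤ d
    · have := h p
      rw [Nat.cast_one, min_eq_left (hd1.trans hd)] at this
      rw [Nat.cast_one, min_eq_left hd1]
      exact_mod_cast hk1 (by exact_mod_cast this)
    · exact le_trans (min_le_right _ _) (coe_le_of_lt_one (not_le.mp hd1) _)
  · obtain ⟨hd, hk1, hk2⟩ := key p
    have hd' := supportDim_loc_le hsup p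
    set d := Module.supportDim (Localization.AtPrime p) (LocalizedModule p.primeCompl (LinearMap.ker u))
    rcases lt_or_ge d 1 with hd0 | hd1
    · exact le_trans (min_le_right _ _) (coe_le_of_lt_one hd0 _)
    have e1 := h1 p
    rw [Nat.cast_one, min_eq_left (hd1.trans hd')] at e1
    have e0 := h0 p
    rcases lt_or_ge d 2 with hd2 | hd2
    · refine le_trans (min_le_right _ _) (coe_le_of_lt_two hd2 (hk1 ?_))
      have e0' := le_trans (le_min (show (1 : WithBot ℕ∞) ≤ ((2 : ℕ) : WithBot ℕ∞) by norm_num) (hd1.trans hd)) e0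
      exact WithBot.one_le_coe.mp e0'
    · have h2 : ((2 : ℕ) : WithBot ℕ∞) ≤ d := by simpa using hd2
      rw [min_eq_left h2]
      rw [min_eq_left (h2.trans hd)] at e0
      refine WithBot.coe_le_coe.mpr (hk2 (WithBot.coe_le_coe.mp e0) (WithBot.one_le_coe.mp e1))

theorem idealDepth_hom (I : Ideal A) (M N : Type u) [AddCommGroup M] [Module A M] [Module.Finite A M]
    [AddCommGroup N] [Module A N] [Module.Finite A N] {k : ℕ} (hk : k ≤ 2)
    (h : (k : ℕ∞) ≤ LocCoh.idealDepth I N) : (k : ℕ∞) ≤ LocCoh.idealDepth I (M →ₗ[A] N) := by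
  rw [LC17.idealDepth_eq_iInf] at h ⊢
  refine le_iInf₂ fun q hq => ?_
  have : IsNoetherianRing (Localization.AtPrime q.asIdeal) :=
    IsLocalization.isNoetherianRing q.asIdeal.primeCompl _ inferInstance
  rw [EGA4Alg4.depth_eq_of_equiv (TF3.homLocEquiv (M := M) (N := N) q.asIdeal)]
  exact TF3.natCast_le_depth_hom hk (le_trans h (iInf₂_le q hq))

theorem hasSk_congr {k : ℕ} {M N : Type u} [AddCommGroup M] [Module A M] [AddCommGroup N] [Module A N]
    (e : M ≃ₗ[A] N) (h : LocCoh.HasSk k A M) : LocCoh.HasSk k A N := by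
  intro p _
  let e' : LocalizedModule p.primeCompl M ≃ₗ[Localization.AtPrime p] LocalizedModule p.primeCompl N :=
    LinearEquiv.ofBijective (LocalizedModule.map p.primeCompl e.toLinearMap)
      ⟨LocalizedModule.map_injective _ _ e.injective, LocalizedModule.map_surjective _ _ e.surjective⟩
  rw [← Module.supportDim_eq_of_equiv e', ← EGA4Alg4.depth_eq_of_equiv e']
  exact h p

theorem idealDepth_of_isReflexive (I : Ideal A) (G : Type u) [AddCommGroup G] [Module A G] [Module.Finite A G]
    [Module.IsReflexive A G] :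
    (1 ≤ LocCoh.idealDepth I A → 1 ≤ LocCoh.idealDepth I G) ∧
    (2 ≤ LocCoh.idealDepth I A → 2 ≤ LocCoh.idealDepth I G) ∧
    (LocCoh.HasSk 1 A A → LocCoh.HasSk 1 A G) ∧ (LocCoh.HasSk 2 A A → LocCoh.HasSk 2 A G) := by
  haveI : Module.Finite A (Module.Dual A G) := TF3.finite_dual
  have e := (Module.evalEquiv A G).symm
  refine ⟨fun h => ?_, fun h => ?_, fun h => ?_, fun h => ?_⟩
  · have := idealDepth_hom I (Module.Dual A G) A (k := 1) (by norm_num) (by exact_mod_cast h)
    rw [LC17.idealDepth_congr I e] at this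
    exact_mod_cast this
  · have := idealDepth_hom I (Module.Dual A G) A (k := 2) le_rfl (by exact_mod_cast h)
    rw [LC17.idealDepth_congr I e] at this
    exact_mod_cast this
  · exact hasSk_congr e (TF3.hasSk_hom (M := Module.Dual A G) (by norm_num) h)
  · exact hasSk_congr e (TF3.hasSk_hom (M := Module.Dual A G) le_rfl h)

end Groth.Agent.Depth99
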