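import Groth.Agent.Depth99.Reflexive

universe u

open Module

namespace Groth.Agent.Depth99

variable {B : Type u} [CommRing B] [IsNoetherianRing B]

/-- A surjection onto a module that is free at `q` splits at `q`, up to a denominator. -/
theorem exists_section_smul {D M : Type u} [AddCommGroup D] [Module B D] [Module.Finite B D]
    [AddCommGroup M] [Module B M] (p : M →ₗ[B] D) (hp : Function.Surjective p) (q : Ideal B) [q.IsPrime]
    [Module.Free (Localization.AtPrime q) (LocalizedModule q.primeCompl D)] :
    ∃ (σ : D →ₗ[B] M) (s : q.primeCompl), p ∘ₗ σ = (s : B) • LinearMap.id := by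
  haveI : Module.FinitePresentation B D := Module.finitePresentation_of_finite B D
  obtain ⟨τ, hτ⟩ := Module.projective_lifting_property (LocalizedModule.map q.primeCompl p) LinearMap.id
    (LocalizedModule.map_surjective q.primeCompl p hp)
  obtain ⟨σ, s, hσ⟩ := Module.FinitePresentation.exists_lift_of_isLocalizedModule q.primeCompl
    (LocalizedModule.mkLinearMap q.primeCompl M)
    ((τ.restrictScalars B) ∘ₗ LocalizedModule.mkLinearMap q.primeCompl D)
  have h1 : LocalizedModule.mkLinearMap q.primeCompl D ∘ₗ (p ∘ₗ σ) =
      LocalizedModule.mkLinearMap q.primeCompl D ∘ₗ ((s : B) • LinearMap.id) := by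
    ext d
    have h2 := congrArg (LocalizedModule.map q.primeCompl p) (LinearMap.congr_fun hσ d)
    have h3 := LinearMap.congr_fun hτ (LocalizedModule.mkLinearMap q.primeCompl D d)
    simp only [LinearMap.comp_apply, LinearMap.id_apply, LinearMap.smul_apply, Submonoid.smul_def,
      LinearMap.map_smul_of_tower, LinearMap.coe_restrictScalars] at h2 h3 ⊢
    rw [h3] at h2
    simpa [LocalizedModule.map_mk, Submonoid.smul_def, LinearMap.map_smul] using h2
  obtain ⟨c, hc⟩ := Module.Finite.exists_smul_of_comp_eq_of_isLocalizedModule q.primeCompl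
    (LocalizedModule.mkLinearMap q.primeCompl D) (p ∘ₗ σ) ((s : B) • LinearMap.id) h1
  refine ⟨(c : B) • σ, c * s, ?_⟩
  rw [LinearMap.comp_smul]
  simp only [Submonoid.smul_def] at hc
  rw [hc, Submonoid.coe_mul, mul_smul]

/-- If `h T h = s • h` with `s ∉ q` then the cokernel of `h` is free at `q`. -/
theorem free_coker_loc {M N : Type u} [AddCommGroup M] [Module B M]
    [AddCommGroup N] [Module B N] [Module.Finite B N] [Module.Projective B N] (h : M →ₗ[B] N) (T : N →ₗ[B] M)
    (q : Ideal B) [q.IsPrime] (s : q.primeCompl) (hs : h ∘ₗ T ∘ₗ h = (s : B) • h) :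
    Module.Free (Localization.AtPrime q) (LocalizedModule q.primeCompl (N ⧸ LinearMap.range h)) := by
  let Bq := Localization.AtPrime q
  let π := (LinearMap.range h).mkQ
  let ψ : (N ⧸ LinearMap.range h) →ₗ[B] N := (LinearMap.range h).liftQ ((s : B) • LinearMap.id - h ∘ₗ T) (by
    rintro _ ⟨x, rfl⟩
    have := LinearMap.congr_fun hs x
    simp only [LinearMap.comp_apply, LinearMap.smul_apply] at this
    simp [this])
  have hπψ : π ∘ₗ ψ = (s : B) • LinearMap.id := by
    refine Submodule.linearMap_qext _ (LinearMap.ext fun x => ?_)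
    have h0 : π (h (T x)) = 0 := (Submodule.Quotient.mk_eq_zero _).mpr ⟨_, rfl⟩
    simp only [LinearMap.comp_apply, Submodule.mkQ_apply, LinearMap.smul_apply, LinearMap.id_apply]
    rw [show ψ (Submodule.Quotient.mk x) = (s : B) • x - h (T x) from rfl, map_sub, h0, sub_zero, map_smul]
    rfl
  haveI : Module.Projective Bq (LocalizedModule q.primeCompl N) :=
    Module.projective_of_isLocalizedModule q.primeCompl (LocalizedModule.mkLinearMap q.primeCompl N)
  haveI : Module.Finite Bq (LocalizedModule q.primeCompl N) :=
    Module.Finite.of_isLocalizedModule q.primeCompl (LocalizedModule.mkLinearMap q.primeCompl N)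
  let t : Bq := Localization.mk 1 s
  haveI : Module.Projective Bq (LocalizedModule q.primeCompl (N ⧸ LinearMap.range h)) := by
    refine Module.Projective.of_split (t • LocalizedModule.map q.primeCompl ψ) (LocalizedModule.map q.primeCompl π) ?_
    refine LinearMap.ext fun z => ?_
    induction z using LocalizedModule.induction_on with
    | _ x u =>
      have hx : π (ψ x) = (s : B) • x := by simpa using LinearMap.congr_fun hπψ x
      simp only [LinearMap.comp_apply, LinearMap.smul_apply, map_smul, LinearMap.id_apply, LocalizedModule.map_mk]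
      rw [LocalizedModule.map_mk, hx, show t = Localization.mk 1 s from rfl, LocalizedModule.mk_smul_mk, one_smul]
      exact LocalizedModule.mk_cancel_common_left s u x
  haveI : Module.Finite Bq (LocalizedModule q.primeCompl (N ⧸ LinearMap.range h)) :=
    Module.Finite.of_surjective (LocalizedModule.map q.primeCompl π)
      (LocalizedModule.map_surjective _ _ (Submodule.mkQ_surjective _))
  haveI : Module.Flat Bq (LocalizedModule q.primeCompl (N ⧸ LinearMap.range h)) := Module.Flat.of_projective
  exact Module.free_of_flat_of_isLocalRing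

theorem free_dual_loc {F : Type u} [AddCommGroup F] [Module B F] [Module.Finite B F] (q : Ideal B) [q.IsPrime]
    [Module.Free (Localization.AtPrime q) (LocalizedModule q.primeCompl F)] :
    Module.Free (Localization.AtPrime q) (LocalizedModule q.primeCompl (Module.Dual B F)) := by
  haveI : Module.Finite (Localization.AtPrime q) (LocalizedModule q.primeCompl F) :=
    Module.Finite.of_isLocalizedModule q.primeCompl (LocalizedModule.mkLinearMap q.primeCompl F)
  haveI : Module.Free (Localization.AtPrime q) (LocalizedModule q.primeCompl B) :=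
    Module.Free.of_equiv (selfLocEquiv q).symm
  haveI : Module.Finite (Localization.AtPrime q) (LocalizedModule q.primeCompl B) :=
    Module.Finite.of_isLocalizedModule q.primeCompl (LocalizedModule.mkLinearMap q.primeCompl B)
  exact Module.Free.of_equiv (TF3.homLocEquiv (M := F) (N := B) q).symm

/-- Dualising an exact sequence ending in a surjection. -/
theorem exact_dualMap {M N D : Type u} [AddCommGroup M] [Module B M] [AddCommGroup N] [Module B N]
    [AddCommGroup D] [Module B D] (r : M →ₗ[B] N) (p : N →ₗ[B] D) (hp : Function.Surjective p)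
    (hrp : Function.Exact r p) : Function.Exact p.dualMap r.dualMap := by
  intro φ
  constructor
  · intro h
    refine ⟨(LinearMap.ker p).liftQ φ (fun x hx => ?_) ∘ₗ (p.quotKerEquivOfSurjective hp).symm.toLinearMap,
      LinearMap.ext fun x => ?_⟩
    · obtain ⟨z, rfl⟩ := (hrp x).mp hx
      exact LinearMap.congr_fun h z
    · have h3 : (p.quotKerEquivOfSurjective hp).symm (p x) = Submodule.Quotient.mk x :=
        (LinearEquiv.symm_apply_eq _).mpr (by simp)
      simp [LinearMap.dualMap_apply, h3]
  · rintro ⟨ψ, rfl⟩
    ext z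
    simp [LinearMap.dualMap_apply, hrp.apply_apply_eq_zero]

theorem exists_presentation (J : Ideal B) (F : Type u) [AddCommGroup F] [Module B F] [Module.Finite B F]
    [Module.IsReflexive B F]
    (hU : ∀ q : PrimeSpectrum B, ¬ J ≤ q.asIdeal →
      Module.Free (Localization.AtPrime q.asIdeal) (LocalizedModule q.asIdeal.primeCompl F)) :
    ∃ (n m : ℕ) (g : F →ₗ[B] (Fin n → B)) (h : (Fin n → B) →ₗ[B] (Fin m → B)),
      Function.Injective g ∧ Function.Exact g h ∧
      ∀ q : PrimeSpectrum B, ¬ J ≤ q.asIdeal →
        Module.Free (Localization.AtPrime q.asIdeal)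
          (LocalizedModule q.asIdeal.primeCompl ((Fin m → B) ⧸ LinearMap.range h)) := by
  haveI : Module.Finite B (Module.Dual B F) := TF3.finite_dual
  obtain ⟨n, p, hp⟩ := Module.Finite.exists_fin' B (Module.Dual B F)
  haveI : Module.Finite B (LinearMap.ker p) := Module.Finite.iff_fg.mpr (IsNoetherian.noetherian _)
  obtain ⟨m, r₀, hr₀⟩ := Module.Finite.exists_fin' B (LinearMap.ker p)
  let r := (LinearMap.ker p).subtype ∘ₗ r₀
  have hrp : Function.Exact r p := LinearMap.exact_iff.mpr (by
    rw [LinearMap.range_comp, LinearMap.range_eq_top.mpr hr₀, Submodule.map_top, Submodule.range_subtype])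
  let en := (Pi.basisFun B (Fin n)).toDualEquiv
  let em := (Pi.basisFun B (Fin m)).toDualEquiv
  refine ⟨n, m, en.symm.toLinearMap ∘ₗ p.dualMap ∘ₗ (Module.evalEquiv B F).toLinearMap,
    em.symm.toLinearMap ∘ₗ r.dualMap ∘ₗ en.toLinearMap, ?_, ?_, fun q hq => ?_⟩
  · exact en.symm.injective.comp ((LinearMap.dualMap_injective_of_surjective hp).comp (Module.evalEquiv B F).injective)
  · intro x
    simp only [LinearMap.comp_apply, LinearEquiv.coe_coe, LinearEquiv.map_eq_zero_iff, Set.mem_range]
    rw [exact_dualMap r p hp hrp (en x)]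
    constructor
    · rintro ⟨y, hy⟩
      exact ⟨(Module.evalEquiv B F).symm y, by simp [hy]⟩
    · rintro ⟨y, hy⟩
      exact ⟨Module.evalEquiv B F y, by rw [← hy, LinearEquiv.apply_symm_apply]⟩
  · haveI := hU q hq
    haveI := free_dual_loc (F := F) q.asIdeal
    obtain ⟨σ, s, hσ⟩ := exists_section_smul p hp q.asIdeal
    have hmem : ∀ i, (s : B) • (Pi.basisFun B (Fin n)) i - σ (p (Pi.basisFun B (Fin n) i)) ∈ LinearMap.range r := by
      intro i
      rw [← LinearMap.exact_iff.mp hrp, LinearMap.mem_ker, map_sub, map_smul]
      have := LinearMap.congr_fun hσ (p (Pi.basisFun B (Fin n) i))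
      simp only [LinearMap.comp_apply, LinearMap.smul_apply, LinearMap.id_apply] at this
      rw [this, sub_self]
    choose τ hτ using hmem
    let T : (Fin n → B) →ₗ[B] (Fin m → B) := (Pi.basisFun B (Fin n)).constr B τ
    have hT : r ∘ₗ T = (s : B) • LinearMap.id - σ ∘ₗ p := (Pi.basisFun B (Fin n)).ext fun i => by
      simp [T, hτ i, Basis.constr_basis]
    have hrTr : r ∘ₗ T ∘ₗ r = (s : B) • r := by
      rw [← LinearMap.comp_assoc, hT]
      ext x
      simp [hrp.apply_apply_eq_zero]
    refine free_coker_loc _ (en.symm.toLinearMap ∘ₗ T.dualMap ∘ₗ em.toLinearMap) q.asIdeal s ?_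
    apply LinearMap.ext
    intro x
    have h2 : r.dualMap (T.dualMap (r.dualMap (en x))) = (s : B) • r.dualMap (en x) := by
      apply LinearMap.ext
      intro z
      have := congrArg (en x) (LinearMap.congr_fun hrTr z)
      simp only [LinearMap.comp_apply, LinearMap.smul_apply, map_smul] at this
      simpa [LinearMap.dualMap_apply] using this
    simp only [LinearMap.comp_apply, LinearEquiv.coe_coe, LinearEquiv.apply_symm_apply, LinearMap.smul_apply]
    rw [h2, map_smul]

end Groth.Agent.Depth99
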