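import Groth.Agent.Depth99.BCKer
import Groth.Agent.Depth99.Present

universe u

open TensorProduct IsLocalRing

namespace Groth.Agent.Depth99

variable {C : Type u} [CommRing C] [IsNoetherianRing C]

/-- a map that is invertible off `V(I)` between modules of depth `≥ 2`, `≥ 1` is bijective -/
theorem bijective_of_depth (I : Ideal C) {D₁ D₂ : Type u} [AddCommGroup D₁] [Module C D₁] [Module.Finite C D₁]
    [AddCommGroup D₂] [Module C D₂] [Module.Finite C D₂] (g : D₁ →ₗ[C] D₂)
    (h1 : 2 ≤ LocCoh.idealDepth I D₁) (h2 : 1 ≤ LocCoh.idealDepth I D₂)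
    (hbij : ∀ p : PrimeSpectrum C, ¬ I ≤ p.asIdeal → Function.Bijective (LocalizedModule.map p.asIdeal.primeCompl g)) :
    Function.Bijective g := by
  haveI hK : Subsingleton (LinearMap.ker g) := by
    refine subsingleton_of_depth_pos I (fun p hp => ?_)
      (idealDepth_pos_of_injective I (LinearMap.ker g).subtype Subtype.val_injective (le_trans (by norm_num) h1))
    by_contra hI
    have hinj : Function.Injective (LocalizedModule.map p.asIdeal.primeCompl (LinearMap.ker g).subtype) :=
      LocalizedModule.map_injective _ _ Subtype.val_injective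
    have hex : Function.Exact (LocalizedModule.map p.asIdeal.primeCompl (LinearMap.ker g).subtype)
        (LocalizedModule.map p.asIdeal.primeCompl g) :=
      LocalizedModule.map_exact _ _ _ (LinearMap.exact_iff.mpr (by simp))
    refine (Module.notMem_support_iff.mpr (subsingleton_of_forall_eq 0 fun z => hinj ?_)) hp
    rw [map_zero]
    apply (hbij p hI).1
    rw [map_zero]
    exact hex.apply_apply_eq_zero z
  have hinj : Function.Injective g := LinearMap.ker_eq_bot.mp (Submodule.eq_bot_of_subsingleton)
  let π := (LinearMap.range g).mkQ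
  have hex : Function.Exact g π := LinearMap.exact_iff.mpr (by simp [π])
  haveI hC : Subsingleton (D₂ ⧸ LinearMap.range g) := by
    refine subsingleton_of_depth_pos I (fun p hp => ?_) ?_
    · by_contra hI
      have hexl : Function.Exact (LocalizedModule.map p.asIdeal.primeCompl g)
          (LocalizedModule.map p.asIdeal.primeCompl π) := LocalizedModule.map_exact _ _ _ hex
      refine (Module.notMem_support_iff.mpr (subsingleton_of_forall_eq 0 fun z => ?_)) hp
      obtain ⟨y, rfl⟩ := LocalizedModule.map_surjective p.asIdeal.primeCompl π (Submodule.mkQ_surjective _) z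
      obtain ⟨w, rfl⟩ := (hbij p hI).2 y
      exact hexl.apply_apply_eq_zero w
    · refine le_trans (le_min (by exact_mod_cast h2) ?_)
        (LC15.idealDepth_shortExact (I := I) (f := g) (g := π) hinj (Submodule.mkQ_surjective _) hex).2.1
      generalize LocCoh.idealDepth I D₁ = d at h1 ⊢
      induction d using ENat.recTopCoe with
      | top => simp
      | coe m => norm_cast at h1 ⊢; omega
  exact ⟨hinj, LinearMap.range_eq_top.mp (Submodule.Quotient.subsingleton_iff.mp hC)⟩

/-- base change of a four term sequence with flat cokernel -/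
theorem baseChange_ker {A B A' B' : Type u} [CommRing A] [CommRing B] [CommRing A'] [CommRing B'] [Algebra A B]
    [Algebra A A'] [Algebra B B'] [Algebra A' B'] [Algebra A B'] [IsScalarTower A B B'] [IsScalarTower A A' B']
    [Algebra.IsPushout A B A' B']
    {F E0 E1 G : Type u} [AddCommGroup F] [Module B F] [Module A F] [IsScalarTower A B F]
    [AddCommGroup E0] [Module B E0] [Module A E0] [IsScalarTower A B E0] [Module.Flat A E0]
    [AddCommGroup E1] [Module B E1] [Module A E1] [IsScalarTower A B E1] [Module.Flat A E1]
    [AddCommGroup G] [Module B G] [Module A G] [IsScalarTower A B G] [Module.Flat A G]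
    (f : F →ₗ[B] E0) (u : E0 →ₗ[B] E1) (v : E1 →ₗ[B] G)
    (hf : Function.Injective f) (hfu : Function.Exact f u) (huv : Function.Exact u v) (hv : Function.Surjective v) :
    Nonempty ((B' ⊗[B] F) ≃ₗ[B'] LinearMap.ker (u.baseChange B')) := by
  haveI : Algebra.IsPushout A A' B B' := Algebra.IsPushout.symm inferInstance
  let I := LinearMap.range u
  let r : E0 →ₗ[B] I := u.rangeRestrict
  let i : I →ₗ[B] E1 := I.subtype
  have hr : Function.Surjective r := u.surjective_rangeRestrict
  have hi : Function.Injective i := Subtype.val_injective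
  have hfr : Function.Exact f r := fun z => by rw [← hfu z]; exact Subtype.ext_iff
  have hiv : Function.Exact i v := fun z => by
    rw [huv z]; exact ⟨fun ⟨w, hw⟩ => ⟨⟨z, w, hw⟩, rfl⟩, fun ⟨⟨w, y, hy⟩, hw⟩ => ⟨y, hy.trans hw⟩⟩
  haveI : Module.Flat A I := CAlg8.NilFlat.flat_kernel (i.restrictScalars A) (v.restrictScalars A) hi hv hiv
  have inj : ∀ {N N' P : Type u} [AddCommGroup N] [Module B N] [Module A N] [IsScalarTower A B N]
      [AddCommGroup N'] [Module B N'] [Module A N'] [IsScalarTower A B N']
      [AddCommGroup P] [Module B P] [Module A P] [IsScalarTower A B P] [Module.Flat A P]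
      (a : N →ₗ[B] N') (b : N' →ₗ[B] P), Function.Injective a → Function.Surjective b → Function.Exact a b →
      Function.Injective (a.baseChange B') := by
    intro N N' P _ _ _ _ _ _ _ _ _ _ _ _ _ a b ha hb hab
    have h1 : Function.Injective ((a.restrictScalars A).lTensor A') :=
      (LinearMap.lTensor_inj_iff_rTensor_inj A' _).mpr (rTensor_injective_of_flat_coker (a.restrictScalars A) (b.restrictScalars A) ha hb hab)
    let eN := (Algebra.IsPushout.cancelBaseChange A A' B B' N).symm
    let eN' := (Algebra.IsPushout.cancelBaseChange A A' B B' N').symm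
    have hc : ∀ t : A' ⊗[A] N, a.baseChange B' (eN t) = eN' ((a.restrictScalars A).lTensor A' t) := by
      intro t
      induction t using TensorProduct.induction_on with
      | zero => simp
      | tmul s m => simp [eN, eN']
      | add x y hx hy => simp only [map_add, hx, hy]
    rw [injective_iff_map_eq_zero]
    intro z hz
    obtain ⟨t, rfl⟩ := eN.surjective z
    rw [hc, LinearEquiv.map_eq_zero_iff] at hz
    rw [h1 (hz.trans (map_zero _).symm), map_zero]
  have hfB : Function.Injective (f.baseChange B') := inj f r hf hr hfr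
  have hiB : Function.Injective (i.baseChange B') := inj i v hi hv hiv
  have ex : Function.Exact (f.baseChange B') (r.baseChange B') := lTensor_exact B' hfr hr
  refine ⟨(LinearEquiv.ofInjective _ hfB).trans (LinearEquiv.ofEq _ _ ?_)⟩
  rw [show u = i ∘ₗ r from rfl, LinearMap.baseChange_comp, LinearMap.ker_comp, LinearMap.ker_eq_bot.mpr hiB,
    Submodule.comap_bot]
  exact (LinearMap.exact_iff.mp ex).symm

theorem ddual_baseChange (A B : Type u) [CommRing A] [CommRing B] [IsNoetherianRing A] [IsNoetherianRing B] [Algebra A B]
    (A' B' : Type u) [CommRing A'] [CommRing B'] [IsNoetherianRing A'] [IsNoetherianRing B']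
    [Algebra A A'] [Algebra B B'] [Algebra A' B'] [Algebra A B'] [IsScalarTower A B B'] [IsScalarTower A A' B']
    [Algebra.IsPushout A B A' B'] [Module.Flat A B] (J : Ideal B)
    (hZ : ∀ q : PrimeSpectrum B, J ≤ q.asIdeal →
      2 ≤ LocCoh.idealDepth (q.asIdeal.map (algebraMap B (EGA4.FibLocRing A B q.asIdeal))) (EGA4.FibLocRing A B q.asIdeal))
    (F : Type u) [AddCommGroup F] [Module B F] [Module A F] [IsScalarTower A B F] [Module.Finite B F]
    (hFU : ∀ q : PrimeSpectrum B, ¬ J ≤ q.asIdeal → Module.Free (Localization.AtPrime q.asIdeal) (LocalizedModule q.asIdeal.primeCompl F)) :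
    2 ≤ LocCoh.idealDepth J (Module.Dual B (Module.Dual B F)) ∧
    Function.Bijective (((Module.Dual.eval B F).baseChange B').dualMap.dualMap) ∧
    (Module.Flat A F →
      (∀ q : PrimeSpectrum B, J ≤ q.asIdeal →
        2 ≤ LocCoh.idealDepth (q.asIdeal.map (algebraMap B (EGA4.FibLocRing A B q.asIdeal))) (EGA4.FibLocMod A B q.asIdeal F)) →
      Module.IsReflexive B F ∧ Module.IsReflexive B' (B' ⊗[B] F)) := by
  have hJB : 2 ≤ LocCoh.idealDepth J B := idealDepth_self_of_fibres (A := A) J 2 hZ
  obtain ⟨hflat, hZ', hJB'⟩ := idealDepth_baseChange_self (A' := A') (B' := B') J 2 hZ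
  haveI : Module.Finite B (Module.Dual B F) := TF3.finite_dual
  haveI : Module.Finite B (Module.Dual B (Module.Dual B F)) := TF3.finite_dual
  have hfin : ∀ q : PrimeSpectrum B,
      Module.Finite (Localization.AtPrime q.asIdeal) (LocalizedModule q.asIdeal.primeCompl F) := fun q =>
    Module.Finite.of_isLocalizedModule q.asIdeal.primeCompl (LocalizedModule.mkLinearMap q.asIdeal.primeCompl F)
  refine ⟨?_, ?_, ?_⟩
  · have := idealDepth_hom J (Module.Dual B F) B (k := 2) le_rfl (by exact_mod_cast hJB)
    exact_mod_cast this
  · haveI : Module.Finite B' (Module.Dual B' (B' ⊗[B] F)) := TF3.finite_dual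
    haveI : Module.Finite B' (Module.Dual B' (B' ⊗[B] Module.Dual B (Module.Dual B F))) := TF3.finite_dual
    have h1 : Function.Bijective (((Module.Dual.eval B F).baseChange B').dualMap) := by
      refine bijective_of_depth (J.map (algebraMap B B')) _
        (by exact_mod_cast idealDepth_hom _ _ B' (k := 2) le_rfl (by exact_mod_cast hJB'))
        (le_trans (show (1 : ℕ∞) ≤ 2 by norm_num)
          (by exact_mod_cast idealDepth_hom _ _ B' (k := 2) le_rfl (by exact_mod_cast hJB'))) fun p hp => ?_
      let q : PrimeSpectrum B := ⟨p.asIdeal.comap (algebraMap B B'), inferInstance⟩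
      have hq : ¬ J ≤ q.asIdeal := fun h => hp (Ideal.map_le_iff_le_comap.mpr h)
      have := hFU q hq
      have := hfin q
      have hb := (TF3.localized_eval_bijective_iff (M := F) q.asIdeal).mpr inferInstance
      exact ((qInv_of_loc_bijective (Module.Dual.eval B F) q.asIdeal hb).baseChange p.asIdeal rfl).dualMap.loc_bijective
    exact (LinearEquiv.ofBijective _ h1).dualMap.bijective
  · intro hFflat hF2
    have hdF : 2 ≤ LocCoh.idealDepth J F := by
      rw [LC17.idealDepth_eq_iInf]
      exact le_iInf₂ fun q hq => (hF2 q hq).trans (depth_loc_ge_fibre q.asIdeal F)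
    haveI hrefl : Module.IsReflexive B F := isReflexive_of_depth J (le_trans (by norm_num) hJB) F (fun p hp => by
      have := hFU p hp
      have := hfin p
      infer_instance) hdF
    refine ⟨hrefl, ?_⟩
    obtain ⟨n, m, g, h, hg, hgh, hGU⟩ := exists_presentation J F hFU
    let G := (Fin m → B) ⧸ LinearMap.range h
    let π : (Fin m → B) →ₗ[B] G := (LinearMap.range h).mkQ
    have hhπ : Function.Exact h π := LinearMap.exact_iff.mpr (Submodule.ker_mkQ _)
    have hπ : Function.Surjective π := Submodule.mkQ_surjective _
    haveI : Module.Flat A (Fin n → B) := Module.Flat.trans A B _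
    haveI : Module.Flat A (Fin m → B) := Module.Flat.trans A B _
    haveI : Module.Flat A G := flat_of_flatAt G fun q => by
      refine (four_term_loc q.asIdeal J g h π hg hgh hhπ hπ (fun q' hq' => ?_) ?_ ?_).1.mp
        (le_idealDepth_fibLocMod q.asIdeal J F 2 hF2)
      · have := hGU q' hq'
        have : Module.Flat A (Localization.AtPrime q'.asIdeal) := Module.Flat.trans A B _
        exact Module.Flat.trans A (Localization.AtPrime q'.asIdeal) _
      · exact le_idealDepth_fibLocMod q.asIdeal J _ 2 fun r hr => (hZ r hr).trans (fibre_depth_projective r _)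
      · exact le_idealDepth_fibLocMod q.asIdeal J _ 1 fun r hr =>
          (le_trans (by norm_num) (hZ r hr)).trans (fibre_depth_projective r _)
    obtain ⟨e⟩ := baseChange_ker (A := A) (A' := A') (B' := B') g h π hg hgh hhπ hπ
    haveI := (bc_ker A B A' B' J hZ F (Fin n → B) (Fin m → B) G g h π hg hgh hhπ hπ hFU hGU).2.1
    exact Module.equiv e.symm

end Groth.Agent.Depth99
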