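import Groth.Agent.Depth99.ProjFib
import Groth.Agent.EGA4H10.QuotLoc
import Groth.Agent.EGA4Alg4.CMMod

universe u

open TensorProduct IsLocalRing

namespace Groth.Agent.Depth99

variable {A B : Type u} [CommRing A] [CommRing B] [Algebra A B] [IsNoetherianRing B]

/-- localisation of `M/pM` is the fibre module, at primes over `p` -/
noncomputable def fibLocEquivQuot (p : Ideal A) (M : Type u) [AddCommGroup M] [Module B M] (q : Ideal B) [q.IsPrime]
    (hq : q.comap (algebraMap A B) = p) :
    LocalizedModule q.primeCompl (M ⧸ (p.map (algebraMap A B) • (⊤ : Submodule B M))) ≃ₗ[Localization.AtPrime q]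
      EGA4.FibLocMod A B q M :=
  (localizedQuotientEquiv _ _).symm ≪≫ₗ Submodule.quotEquivOfEq _ _ (by
    rw [Submodule.localized, Submodule.localized'_smul, Ideal.localized'_eq_map, Submodule.localized'_top,
      Ideal.map_map, ← IsScalarTower.algebraMap_eq, hq])

theorem finite_fibLocMod (q : Ideal B) [q.IsPrime] (M : Type u) [AddCommGroup M] [Module B M] [Module.Finite B M] :
    Module.Finite (Localization.AtPrime q) (EGA4.FibLocMod A B q M) :=
  have : Module.Finite (Localization.AtPrime q) (LocalizedModule q.primeCompl M) :=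
    Module.Finite.of_isLocalizedModule q.primeCompl (LocalizedModule.mkLinearMap q.primeCompl M)
  inferInstance

theorem hasSk_fib_iff (k : ℕ) (q : Ideal B) [q.IsPrime] (M : Type u) [AddCommGroup M] [Module B M] [Module.Finite B M] :
    LocCoh.HasSk k (EGA4.FibLocRing A B q) (EGA4.FibLocMod A B q M) ↔
      ∀ q' : PrimeSpectrum B, q'.asIdeal ≤ q → q'.asIdeal.comap (algebraMap A B) = q.comap (algebraMap A B) →
        min (k : WithBot ℕ∞) (Module.supportDim (Localization.AtPrime q'.asIdeal) (EGA4.FibLocMod A B q'.asIdeal M)) ≤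
          ((LocCoh.depth (Localization.AtPrime q'.asIdeal) (EGA4.FibLocMod A B q'.asIdeal M) : ℕ∞) : WithBot ℕ∞) := by
  let p := q.comap (algebraMap A B)
  let M' := M ⧸ (p.map (algebraMap A B) • (⊤ : Submodule B M))
  have : IsNoetherianRing (Localization.AtPrime q) := IsLocalization.isNoetherianRing q.primeCompl _ inferInstance
  have := finite_fibLocMod (A := A) q M
  rw [EGA4H10.hasSk_iff_restrict (A := Localization.AtPrime q) (EGA4.FibLocMod A B q M) Ideal.Quotient.mk_surjective]
  have h1 : LocCoh.HasSk k (Localization.AtPrime q) (EGA4.FibLocMod A B q M) ↔ EGA4.HasSkAt k B M' q :=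
    ⟨fun h => hasSk_congr (fibLocEquivQuot p M q rfl).symm h, fun h => hasSk_congr (fibLocEquivQuot p M q rfl) h⟩
  rw [h1, EGA4H10.hasSkAt_iff]
  constructor
  · intro h q' hle hp
    have h2 := h q' hle
    have : IsNoetherianRing (Localization.AtPrime q'.asIdeal) :=
      IsLocalization.isNoetherianRing q'.asIdeal.primeCompl _ inferInstance
    let e := fibLocEquivQuot p M q'.asIdeal hp
    rw [EGA4Alg4.depth_eq_of_equiv e, Module.supportDim_eq_of_equiv e] at h2
    exact h2
  · intro h q' hle
    rcases subsingleton_or_nontrivial (LocalizedModule q'.asIdeal.primeCompl M') with hs | hn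
    · rw [Module.supportDim_eq_bot_of_subsingleton]
      exact (min_le_right _ _).trans bot_le
    have hK : p.map (algebraMap A B) ≤ q'.asIdeal :=
      SetLike.coe_subset_coe.mp ((Module.support_quotient _).le (show q' ∈ Module.support B M' from hn)).2
    have hp : q'.asIdeal.comap (algebraMap A B) = p :=
      le_antisymm (Ideal.comap_mono hle) (Ideal.map_le_iff_le_comap.mp hK)
    have : IsNoetherianRing (Localization.AtPrime q'.asIdeal) :=
      IsLocalization.isNoetherianRing q'.asIdeal.primeCompl _ inferInstance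
    let e := fibLocEquivQuot p M q'.asIdeal hp
    rw [EGA4Alg4.depth_eq_of_equiv e, Module.supportDim_eq_of_equiv e]
    exact h q' hle hp

theorem idealDepth_max_fibLocMod (q : Ideal B) [q.IsPrime] (M : Type u) [AddCommGroup M] [Module B M] [Module.Finite B M] :
    LocCoh.idealDepth (q.map (algebraMap B (EGA4.FibLocRing A B q))) (EGA4.FibLocMod A B q M) =
      LocCoh.depth (Localization.AtPrime q) (EGA4.FibLocMod A B q M) := by
  rw [← idealDepth_fibLocMod_eq, Localization.AtPrime.map_eq_maximalIdeal]
  rfl

theorem supportDim_fib_self (q : Ideal B) [q.IsPrime] :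
    Module.supportDim (Localization.AtPrime q) (EGA4.FibLocMod A B q B) = ringKrullDim (EGA4.FibLocRing A B q) := by
  have : IsNoetherianRing (Localization.AtPrime q) := IsLocalization.isNoetherianRing q.primeCompl _ inferInstance
  have : IsLocalHom (algebraMap (Localization.AtPrime q) (EGA4.FibLocRing A B q)) :=
    Function.Surjective.isLocalHom _ Ideal.Quotient.mk_surjective
  rw [Module.supportDim_eq_of_equiv ((fibSelfEquiv (A := A) q).restrictScalars (Localization.AtPrime q)),
    EGA4Alg4.supportDim_eq_of_finite_restrictScalars (Localization.AtPrime q) (EGA4.FibLocRing A B q)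
      (EGA4.FibLocRing A B q), Module.supportDim_self_eq_ringKrullDim]

/-- where the fibre ring at `q` is `S_k`, its fibre depths at generizations -/
theorem fibre_depth_of_hasSk (k : ℕ) (q : Ideal B) [q.IsPrime]
    (hS : LocCoh.HasSk k (EGA4.FibLocRing A B q) (EGA4.FibLocRing A B q))
    (q' : PrimeSpectrum B) (hle : q'.asIdeal ≤ q) (hp : q'.asIdeal.comap (algebraMap A B) = q.comap (algebraMap A B))
    (hd : (k : WithBot ℕ∞) ≤ ringKrullDim (EGA4.FibLocRing A B q'.asIdeal)) :
    (k : ℕ∞) ≤ LocCoh.idealDepth (q'.asIdeal.map (algebraMap B (EGA4.FibLocRing A B q'.asIdeal)))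
      (EGA4.FibLocRing A B q'.asIdeal) := by
  have : IsNoetherianRing (Localization.AtPrime q) := IsLocalization.isNoetherianRing q.primeCompl _ inferInstance
  have : IsNoetherianRing (Localization.AtPrime q'.asIdeal) :=
    IsLocalization.isNoetherianRing q'.asIdeal.primeCompl _ inferInstance
  have h := (hasSk_fib_iff k q B).mp (hasSk_congr (fibSelfEquiv (A := A) q).symm hS) q' hle hp
  rw [supportDim_fib_self, min_eq_left hd] at h
  have := finite_fibLocMod (A := A) q'.asIdeal B
  have : Module.Finite (EGA4.FibLocRing A B q'.asIdeal) (EGA4.FibLocMod A B q'.asIdeal B) :=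
    Module.Finite.of_restrictScalars_finite (Localization.AtPrime q'.asIdeal) _ _
  rw [← LC17.idealDepth_congr _ (fibSelfEquiv (A := A) q'.asIdeal), idealDepth_max_fibLocMod]
  exact WithBot.coe_le_coe.mp h

/-- `(S₂)` of a fibre module that is free off `J` and has depth `≥ 2` along `J` -/
theorem hasSk_two_fib (J : Ideal B) (q : Ideal B) [q.IsPrime]
    (hS : LocCoh.HasSk 2 (EGA4.FibLocRing A B q) (EGA4.FibLocRing A B q))
    (M : Type u) [AddCommGroup M] [Module B M] [Module.Finite B M]
    (hM : ∀ q' : PrimeSpectrum B, ¬ J ≤ q'.asIdeal →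
      Module.Free (Localization.AtPrime q'.asIdeal) (LocalizedModule q'.asIdeal.primeCompl M))
    (hd : ∀ q' : PrimeSpectrum B, J ≤ q'.asIdeal → q'.asIdeal ≤ q →
      q'.asIdeal.comap (algebraMap A B) = q.comap (algebraMap A B) →
      2 ≤ LocCoh.idealDepth (q'.asIdeal.map (algebraMap B (EGA4.FibLocRing A B q'.asIdeal))) (EGA4.FibLocMod A B q'.asIdeal M)) :
    LocCoh.HasSk 2 (EGA4.FibLocRing A B q) (EGA4.FibLocMod A B q M) := by
  rw [hasSk_fib_iff]
  intro q' hle hp
  have : IsNoetherianRing (Localization.AtPrime q'.asIdeal) :=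
    IsLocalization.isNoetherianRing q'.asIdeal.primeCompl _ inferInstance
  rw [← idealDepth_max_fibLocMod]
  by_cases hJ : J ≤ q'.asIdeal
  · exact le_trans (min_le_left _ _) (WithBot.coe_le_coe.mpr (hd q' hJ hle hp))
  have := hM q' hJ
  refine le_trans ?_ (WithBot.coe_le_coe.mpr (fibre_depth_free q'.asIdeal q'.asIdeal M))
  have hdim : Module.supportDim (Localization.AtPrime q'.asIdeal) (EGA4.FibLocMod A B q'.asIdeal M) ≤
      ringKrullDim (EGA4.FibLocRing A B q'.asIdeal) := by
    have : IsLocalHom (algebraMap (Localization.AtPrime q'.asIdeal) (EGA4.FibLocRing A B q'.asIdeal)) :=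
      Function.Surjective.isLocalHom _ Ideal.Quotient.mk_surjective
    have := finite_fibLocMod (A := A) q'.asIdeal M
    have : Module.Finite (EGA4.FibLocRing A B q'.asIdeal) (EGA4.FibLocMod A B q'.asIdeal M) :=
      Module.Finite.of_restrictScalars_finite (Localization.AtPrime q'.asIdeal) _ _
    rw [EGA4Alg4.supportDim_eq_of_finite_restrictScalars (Localization.AtPrime q'.asIdeal)
      (EGA4.FibLocRing A B q'.asIdeal) (EGA4.FibLocMod A B q'.asIdeal M)]
    exact Module.supportDim_le_ringKrullDim _ _
  rcases le_or_gt (2 : WithBot ℕ∞) (ringKrullDim (EGA4.FibLocRing A B q'.asIdeal)) with h2 | h2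
  · exact le_trans (min_le_left _ _) (WithBot.coe_le_coe.mpr
      (fibre_depth_of_hasSk 2 q hS q' hle hp (by exact_mod_cast h2)))
  · refine le_trans (min_le_right _ _) (le_trans hdim ?_)
    rcases lt_or_ge (ringKrullDim (EGA4.FibLocRing A B q'.asIdeal)) 1 with h1 | h1
    · exact coe_le_of_lt_one h1 _
    · have hS1 : LocCoh.HasSk 1 (EGA4.FibLocRing A B q) (EGA4.FibLocRing A B q) := fun p _ =>
        le_trans (min_le_min_right _ (by norm_num)) (hS p)
      have h3 := fibre_depth_of_hasSk 1 q hS1 q' hle hp (by exact_mod_cast h1)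
      exact coe_le_of_lt_two h2 (by exact_mod_cast h3)

/-- flat over an artinian base: the fibre has the depth of the module -/
theorem depth_fib_artinian [IsLocalRing A] [IsArtinianRing A] [IsNoetherianRing A] (q : Ideal B) [q.IsPrime]
    (M : Type u) [AddCommGroup M] [Module A M] [Module B M] [IsScalarTower A B M] [Module.Finite B M]
    (hM : FlatCA.FlatAt A q M) :
    LocCoh.depth (Localization.AtPrime q) (LocalizedModule q.primeCompl M) =
      LocCoh.depth (Localization.AtPrime q) (EGA4.FibLocMod A B q M) := by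
  let Bq := Localization.AtPrime q
  have hc : q.comap (algebraMap A B) = maximalIdeal A := IsLocalRing.eq_maximalIdeal
    (IsArtinianRing.isMaximal_of_isPrime (q.comap (algebraMap A B)))
  have : IsNoetherianRing Bq := IsLocalization.isNoetherianRing q.primeCompl _ inferInstance
  have : IsLocalHom (algebraMap A Bq) := ((local_hom_TFAE (algebraMap A Bq)).out 2 0 rfl rfl).mp (by
    rw [IsScalarTower.algebraMap_eq A B Bq, ← Ideal.map_map, ← Localization.AtPrime.map_eq_maximalIdeal (I := q)]
    exact Ideal.map_mono (hc ▸ Ideal.map_comap_le))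
  have : Module.Finite Bq (LocalizedModule q.primeCompl M) :=
    Module.Finite.of_isLocalizedModule q.primeCompl (LocalizedModule.mkLinearMap q.primeCompl M)
  have : Module.Flat A (LocalizedModule q.primeCompl M) := hM
  have h := CAlg1.depth_tensor_flat (R := A) (S := Bq) (N := LocalizedModule q.primeCompl M) (M := A)
  rw [EGA4Alg4.depth_eq_of_equiv (AlgebraTensorModule.rid A Bq (LocalizedModule q.primeCompl M))] at h
  have h0 : LocCoh.depth A A = 0 := by
    rw [EGA4Alg4.depth_eq_zero_iff]
    obtain ⟨p, hp⟩ := associatedPrimes.nonempty A A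
    have := hp.isPrime
    rwa [IsLocalRing.eq_maximalIdeal (IsArtinianRing.isMaximal_of_isPrime p)] at hp
  rw [h0, zero_add] at h
  rw [h]
  exact EGA4Alg4.depth_eq_of_equiv (Submodule.quotEquivOfEq _ _ (by rw [hc]))

end Groth.Agent.Depth99
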