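import Groth.Agent.Depth99.FibreLoc
import Groth.Agent.Depth99.Reflexive

universe u

open TensorProduct IsLocalRing

namespace Groth.Agent.Depth99

variable {A B : Type u} [CommRing A] [CommRing B] [Algebra A B]

/-- The fibre of the module `B` is the fibre local ring. -/
noncomputable def fibSelfEquiv (q : Ideal B) [q.IsPrime] :
    EGA4.FibLocMod A B q B ≃ₗ[EGA4.FibLocRing A B q] EGA4.FibLocRing A B q :=
  let K := (q.comap (algebraMap A B)).map (algebraMap A (Localization.AtPrime q))
  let e₀ : EGA4.FibLocMod A B q B ≃ₗ[Localization.AtPrime q] EGA4.FibLocRing A B q :=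
    Submodule.Quotient.equiv _ _ (selfLocEquiv q) (by
      rw [Submodule.map_smul'', Submodule.map_top, LinearEquiv.range]
      simp)
  e₀.toAddEquiv.toLinearEquiv fun c x => by
    obtain ⟨c, rfl⟩ := Ideal.Quotient.mk_surjective c
    exact e₀.map_smul c x

theorem fibLocRing_depth_le [IsNoetherianRing A] [IsNoetherianRing B] [Module.Flat A B]
    (q : Ideal B) [q.IsPrime] :
    LocCoh.idealDepth (q.map (algebraMap B (EGA4.FibLocRing A B q))) (EGA4.FibLocRing A B q) ≤
      LocCoh.depth (Localization.AtPrime q) (LocalizedModule q.primeCompl B) := by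
  haveI : IsNoetherianRing (Localization.AtPrime q) := IsLocalization.isNoetherianRing q.primeCompl _ inferInstance
  rw [← LC17.idealDepth_congr (q.map (algebraMap B (EGA4.FibLocRing A B q))) (fibSelfEquiv (A := A) q)]
  exact depth_loc_ge_fibre q B

theorem idealDepth_self_of_fibres [IsNoetherianRing A] [IsNoetherianRing B] [Module.Flat A B]
    (J : Ideal B) (k : ℕ∞) (h : ∀ q : PrimeSpectrum B, J ≤ q.asIdeal →
      k ≤ LocCoh.idealDepth (q.asIdeal.map (algebraMap B (EGA4.FibLocRing A B q.asIdeal))) (EGA4.FibLocRing A B q.asIdeal)) :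
    k ≤ LocCoh.idealDepth J B := by
  rw [LC17.idealDepth_eq_iInf]
  exact le_iInf₂ fun q hq => (h q hq).trans (fibLocRing_depth_le q.asIdeal)

end Groth.Agent.Depth99
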