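import Groth.Agent.Depth99.FibSelf
import Groth.Agent.CAlg1.SerreNormal
import Groth.Agent.CAlg1.FlatDepth
import Mathlib.RingTheory.RingHom.Flat

universe u

open TensorProduct IsLocalRing

namespace Groth.Agent.Depth99

variable {A B : Type u} [CommRing A] [CommRing B] [Algebra A B]

theorem isLocalRing_fibLocRing (q : Ideal B) [q.IsPrime] : IsLocalRing (EGA4.FibLocRing A B q) ∧
    q.map (algebraMap B (EGA4.FibLocRing A B q)) =
      (maximalIdeal (Localization.AtPrime q)).map (Ideal.Quotient.mk _) := by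
  let Bq := Localization.AtPrime q
  have hle : (q.comap (algebraMap A B)).map (algebraMap A Bq) ≤ maximalIdeal Bq := by
    rw [← Localization.AtPrime.map_eq_maximalIdeal (I := q), IsScalarTower.algebraMap_eq A B Bq, ← Ideal.map_map]
    exact Ideal.map_mono Ideal.map_comap_le
  haveI : Nontrivial (EGA4.FibLocRing A B q) := Ideal.Quotient.nontrivial_iff.mpr fun he =>
    (maximalIdeal.isMaximal Bq).ne_top (top_le_iff.mp (he ▸ hle))
  refine ⟨IsLocalRing.of_surjective' (Ideal.Quotient.mk _) Ideal.Quotient.mk_surjective, ?_⟩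
  rw [← Localization.AtPrime.map_eq_maximalIdeal (I := q), Ideal.map_map]
  rfl

instance (q : Ideal B) [q.IsPrime] : IsLocalRing (EGA4.FibLocRing A B q) := (isLocalRing_fibLocRing q).1

theorem idealDepth_fibLocRing_eq (q : Ideal B) [q.IsPrime] :
    LocCoh.idealDepth (q.map (algebraMap B (EGA4.FibLocRing A B q))) (EGA4.FibLocRing A B q) =
      LocCoh.depth (EGA4.FibLocRing A B q) (EGA4.FibLocRing A B q) := by
  rw [(isLocalRing_fibLocRing q).2,
    IsLocalRing.map_maximalIdeal_of_surjective (Ideal.Quotient.mk _) Ideal.Quotient.mk_surjective]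
  rfl

theorem exists_fibLoc_equiv (p : Ideal A) [p.IsPrime] (Q : Ideal (p.Fiber B)) [Q.IsPrime] (q : Ideal B) [q.IsPrime]
    (hQ : Q.comap (Algebra.TensorProduct.includeRight : B →ₐ[A] p.Fiber B) = q)
    (hq : q.comap (algebraMap A B) = p) :
    Nonempty (Localization.AtPrime Q ≃+* EGA4.FibLocRing A B q) := by
  subst hQ
  haveI : (Q.comap (Algebra.TensorProduct.includeRight : B →ₐ[A] p.Fiber B)).LiesOver p := ⟨hq.symm⟩
  letI := Localization.AtPrime.algebraOfLiesOver p (Q.comap (Algebra.TensorProduct.includeRight : B →ₐ[A] p.Fiber B))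
  exact ⟨(Ideal.Fiber.localizationAlgEquivQuotient p Q).toRingEquiv.trans
    (Ideal.quotEquivOfEq (by rw [hq]))⟩

/-- a fibre local ring does not lose depth under base change -/
theorem fibre_depth_baseChange {A' B' : Type u} [CommRing A'] [CommRing B'] [IsNoetherianRing B] [IsNoetherianRing B']
    [Algebra A A'] [Algebra B B'] [Algebra A' B'] [Algebra A B'] [IsScalarTower A B B'] [IsScalarTower A A' B']
    [Algebra.IsPushout A B A' B'] (q' : Ideal B') [q'.IsPrime] :
    LocCoh.idealDepth ((q'.comap (algebraMap B B')).map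
        (algebraMap B (EGA4.FibLocRing A B (q'.comap (algebraMap B B')))))
        (EGA4.FibLocRing A B (q'.comap (algebraMap B B'))) ≤
      LocCoh.idealDepth (q'.map (algebraMap B' (EGA4.FibLocRing A' B' q'))) (EGA4.FibLocRing A' B' q') := by
  rw [idealDepth_fibLocRing_eq, idealDepth_fibLocRing_eq]
  let q := q'.comap (algebraMap B B')
  let p' := q'.comap (algebraMap A' B')
  let p := q.comap (algebraMap A B)
  have hp : p = p'.comap (algebraMap A A') := by
    simp only [p, p', q, Ideal.comap_comap, ← IsScalarTower.algebraMap_eq]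
  haveI : Algebra.IsPushout A A' B B' := Algebra.IsPushout.symm inferInstance
  let ι : p.ResidueField →ₐ[A] p'.ResidueField := Ideal.ResidueField.mapₐ p p' (Algebra.ofId A A') hp
  have hι : ι.toRingHom.Flat := RingHom.Flat.of_isField (Field.toIsField _) _
  let e : p'.ResidueField ⊗[A] B ≃ₐ[A'] p'.Fiber B' :=
    (Algebra.TensorProduct.cancelBaseChange A A' A' p'.ResidueField B).symm.trans
      (Algebra.TensorProduct.congr (AlgEquiv.refl) (Algebra.IsPushout.equiv A A' B B'))
  let m := Algebra.TensorProduct.map ι (AlgHom.id A B)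
  let φ : p.Fiber B →+* p'.Fiber B' := e.toRingEquiv.toRingHom.comp m.toRingHom
  have hφf : φ.Flat :=
    RingHom.Flat.comp (RingHom.Flat.tensorProductMap hι (RingHom.Flat.id B)) (RingHom.Flat.of_bijective e.bijective)
  have hφ1 : ∀ b : B, φ (1 ⊗ₜ[A] b) = 1 ⊗ₜ[A'] algebraMap B B' b := fun b => by
    simp [φ, m, e, Algebra.IsPushout.equiv_tmul]
  let s : PrimeSpectrum.comap (algebraMap A' B') ⁻¹' {(⟨p', inferInstance⟩ : PrimeSpectrum A')} :=
    ⟨⟨q', inferInstance⟩, rfl⟩
  let Q' := PrimeSpectrum.preimageEquivFiber A' B' ⟨p', inferInstance⟩ s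
  have hQ' : Q'.asIdeal.comap (Algebra.TensorProduct.includeRight : B' →ₐ[A'] p'.Fiber B') = q' :=
    congrArg (fun x => x.1.asIdeal) ((PrimeSpectrum.preimageEquivFiber A' B' ⟨p', inferInstance⟩).left_inv s)
  let Q := Q'.asIdeal.comap φ
  have hQ : Q.comap (Algebra.TensorProduct.includeRight : B →ₐ[A] p.Fiber B) = q := by
    ext b
    rw [Ideal.mem_comap, Ideal.mem_comap, Algebra.TensorProduct.includeRight_apply, hφ1, Ideal.mem_comap]
    exact SetLike.ext_iff.mp hQ' (algebraMap B B' b)
  obtain ⟨e1⟩ := exists_fibLoc_equiv p Q q hQ rfl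
  obtain ⟨e2⟩ := exists_fibLoc_equiv p' Q'.asIdeal q' hQ' rfl
  let R := Localization.AtPrime Q
  let R' := Localization.AtPrime Q'.asIdeal
  haveI : IsNoetherianRing (Localization.AtPrime q) := IsLocalization.isNoetherianRing q.primeCompl _ inferInstance
  haveI : IsNoetherianRing (Localization.AtPrime q') := IsLocalization.isNoetherianRing q'.primeCompl _ inferInstance
  haveI : IsNoetherianRing R := isNoetherianRing_of_ringEquiv _ e1.symm
  haveI : IsNoetherianRing R' := isNoetherianRing_of_ringEquiv _ e2.symm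
  rw [← CAlg1.depth_eq_of_ringEquiv (A := R) (B := EGA4.FibLocRing A B q) e1,
    ← CAlg1.depth_eq_of_ringEquiv (A := R') (B := EGA4.FibLocRing A' B' q') e2]
  letI : Algebra R R' := (Localization.localRingHom Q Q'.asIdeal φ rfl).toAlgebra
  haveI : IsLocalHom (algebraMap R R') := Localization.isLocalHom_localRingHom _ _ _ rfl
  haveI : Module.Flat R R' := RingHom.Flat.localRingHom hφf Q'.asIdeal Q rfl
  rw [← EGA4Alg4.depth_eq_of_equiv (A := R') (M := R' ⊗[R] R) (N := R') (AlgebraTensorModule.rid R R' R'),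
    CAlg1.depth_tensor_flat (R := R) (S := R') (N := R') (M := R)]
  exact le_self_add

theorem idealDepth_baseChange_self {A' B' : Type u} [CommRing A'] [CommRing B'] [IsNoetherianRing A']
    [IsNoetherianRing B] [IsNoetherianRing B']
    [Algebra A A'] [Algebra B B'] [Algebra A' B'] [Algebra A B'] [IsScalarTower A B B'] [IsScalarTower A A' B']
    [Algebra.IsPushout A B A' B'] [Module.Flat A B] (J : Ideal B) (k : ℕ∞)
    (h : ∀ q : PrimeSpectrum B, J ≤ q.asIdeal →
      k ≤ LocCoh.idealDepth (q.asIdeal.map (algebraMap B (EGA4.FibLocRing A B q.asIdeal))) (EGA4.FibLocRing A B q.asIdeal)) :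
    Module.Flat A' B' ∧ (∀ q' : PrimeSpectrum B', J.map (algebraMap B B') ≤ q'.asIdeal →
      k ≤ LocCoh.idealDepth (q'.asIdeal.map (algebraMap B' (EGA4.FibLocRing A' B' q'.asIdeal)))
        (EGA4.FibLocRing A' B' q'.asIdeal)) ∧
      k ≤ LocCoh.idealDepth (J.map (algebraMap B B')) B' := by
  haveI : Algebra.IsPushout A A' B B' := Algebra.IsPushout.symm inferInstance
  have hflat : Module.Flat A' B' := Module.Flat.of_linearEquiv (Algebra.IsPushout.equiv A A' B B').toLinearEquiv.symm
  have h' : ∀ q' : PrimeSpectrum B', J.map (algebraMap B B') ≤ q'.asIdeal →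
      k ≤ LocCoh.idealDepth (q'.asIdeal.map (algebraMap B' (EGA4.FibLocRing A' B' q'.asIdeal)))
        (EGA4.FibLocRing A' B' q'.asIdeal) := fun q' hq =>
    (h ⟨q'.asIdeal.comap (algebraMap B B'), inferInstance⟩ (Ideal.map_le_iff_le_comap.mp hq)).trans
      (fibre_depth_baseChange q'.asIdeal)
  exact ⟨hflat, h', idealDepth_self_of_fibres _ k h'⟩

end Groth.Agent.Depth99
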