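import Groth.Agent.Depth99.Basic
import Groth.Prelude.Def_EGA4b
import Groth.Prelude.Def_FlatCA
import Groth.Agent.FlatCrit65.Basic
import Groth.Agent.CAlg1.FlatDepth
import Mathlib.RingTheory.TensorProduct.Pi
import Mathlib.LinearAlgebra.TensorProduct.Pi
import Mathlib.Algebra.Module.LocalizedModule.IsLocalization

universe u

open TensorProduct IsLocalRing

namespace Groth.Agent.Depth99

variable {A B M : Type u} [CommRing A] [CommRing B] [Algebra A B]
  [AddCommGroup M] [Module B M] [Module A M] [IsScalarTower A B M]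

theorem exists_pow_smul_eq_zero [IsNoetherianRing B] (J : Ideal B) {x : B} (hx : x ∈ J)
    (hU : ∀ q : PrimeSpectrum B, ¬ J ≤ q.asIdeal → FlatCA.FlatAt A q.asIdeal M)
    {L L' : Type u} [AddCommGroup L] [Module A L] [AddCommGroup L'] [Module A L']
    (f : L →ₗ[A] L') (hf : Function.Injective f) (t : M ⊗[A] L) (ht : f.lTensor M t = 0) :
    ∃ N : ℕ, x ^ N • t = 0 := by
  suffices h : x ∈ Ideal.radical (LinearMap.ker (LinearMap.toSpanSingleton B (M ⊗[A] L) t)) by
    obtain ⟨N, hN⟩ := h
    exact ⟨N, by simpa using hN⟩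
  rw [Ideal.radical_eq_sInf, Ideal.mem_sInf]
  rintro P ⟨hP, hPp⟩
  by_contra hxP
  haveI hflat : Module.Flat A (LocalizedModule P.primeCompl M) :=
    hU ⟨P, hPp⟩ (fun h => hxP (h hx))
  let ι := LocalizedModule.mkLinearMap P.primeCompl M
  let φ := AlgebraTensorModule.rTensor A L ι
  have h0 : φ t = 0 := by
    apply Module.Flat.lTensor_preserves_injective_linearMap (M := LocalizedModule P.primeCompl M) f hf
    rw [map_zero]
    have : ∀ z : M ⊗[A] L, f.lTensor (LocalizedModule P.primeCompl M) (φ z) =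
        AlgebraTensorModule.rTensor A L' ι (f.lTensor M z) := by
      intro z
      induction z with
      | zero => simp
      | add a b ha hb => simp [ha, hb]
      | tmul m l => simp [φ]
    rw [this, ht, map_zero]
  obtain ⟨s, hs⟩ := (IsLocalizedModule.eq_zero_iff P.primeCompl φ).mp h0
  exact s.2 (hP (by simpa [Submonoid.smul_def] using hs))

variable [IsLocalRing A]

theorem exists_equiv_pi (L : Type u) [AddCommGroup L] [Module A L] [Module.Finite A L]
    (hL : maximalIdeal A • (⊤ : Submodule A L) = ⊥) :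
    ∃ (n : ℕ), Nonempty (L ≃ₗ[A] (Fin n → A ⧸ maximalIdeal A)) := by
  have ht := FlatCrit65.isTorsionBySet_of_smul_eq_bot hL
  letI : Module (A ⧸ maximalIdeal A) L := ht.module
  haveI : IsScalarTower A (A ⧸ maximalIdeal A) L := ht.isScalarTower
  haveI : Module.Finite (A ⧸ maximalIdeal A) L := Module.Finite.of_restrictScalars_finite A _ L
  letI : Field (A ⧸ maximalIdeal A) := Ideal.Quotient.field _
  exact ⟨_, ⟨(Module.finBasis (A ⧸ maximalIdeal A) L).equivFun.restrictScalars A⟩⟩

theorem fibre_pow_induction {Q : ∀ (L : Type u) [AddCommGroup L] [Module A L], Prop}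
    (hbase : ∀ (L : Type u) [AddCommGroup L] [Module A L] [Module.Finite A L],
      maximalIdeal A • (⊤ : Submodule A L) = ⊥ → Q L)
    (hext : ∀ (L : Type u) [AddCommGroup L] [Module A L] [Module.Finite A L] (L₁ : Submodule A L)
      [Module.Finite A L₁], Q L₁ → Q (L ⧸ L₁) → Q L)
    [IsNoetherianRing A] (n : ℕ) (L : Type u) [AddCommGroup L] [Module A L] [Module.Finite A L]
    (h : maximalIdeal A ^ n • (⊤ : Submodule A L) = ⊥) : Q L := by
  induction n generalizing L with
  | zero =>
    refine hbase L ?_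
    rw [pow_zero, Ideal.one_eq_top, Submodule.top_smul] at h
    rw [h, Submodule.smul_bot]
  | succ n ih =>
    refine hext L (maximalIdeal A ^ n • ⊤) (hbase _ ?_) (ih _ ?_)
    · apply Submodule.map_injective_of_injective (f := (maximalIdeal A ^ n • ⊤ : Submodule A L).subtype) Subtype.val_injective
      rw [Submodule.map_smul'', Submodule.map_top, Submodule.range_subtype, Submodule.map_bot,
        ← Submodule.mul_smul, ← pow_succ', h]
    · rw [← Submodule.range_mkQ (maximalIdeal A ^ n • ⊤ : Submodule A L), ← Submodule.map_top,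
        ← Submodule.map_smul'', ← LinearMap.le_ker_iff_map, Submodule.ker_mkQ]

noncomputable def tensorPiEquiv (n : ℕ) :
    M ⊗[A] (Fin n → A ⧸ maximalIdeal A) ≃ₗ[B] (Fin n → EGA4.FibMod A B M) :=
  (TensorProduct.piRight A B M _).trans
    (LinearEquiv.piCongrRight fun _ => (CAlg1.tensorQuotEquiv (S := B) (N := M) (maximalIdeal A)).symm)

theorem tensor_regular [IsNoetherianRing A] [IsNoetherianRing B] (J : Ideal B) {x : B} (hx : x ∈ J)
    (hU : ∀ q : PrimeSpectrum B, ¬ J ≤ q.asIdeal → FlatCA.FlatAt A q.asIdeal M)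
    (hreg : IsSMulRegular (EGA4.FibMod A B M) x)
    (n : ℕ) (L : Type u) [AddCommGroup L] [Module A L] [Module.Finite A L]
    (h : maximalIdeal A ^ n • (⊤ : Submodule A L) = ⊥) :
    ∀ t : M ⊗[A] L, x • t = 0 → t = 0 := by
  refine fibre_pow_induction (Q := fun L _ _ => ∀ t : M ⊗[A] L, x • t = 0 → t = 0) ?_ ?_ n L h
  · intro L _ _ _ hL t ht
    obtain ⟨r, ⟨e⟩⟩ := exists_equiv_pi L hL
    let E := (AlgebraTensorModule.congr (LinearEquiv.refl B M) e).trans (tensorPiEquiv (B := B) r)
    apply E.injective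
    rw [map_zero]
    funext i
    refine hreg ?_
    have h1 := congrFun (congrArg E ht) i
    rw [map_smul, map_zero] at h1
    simpa using h1
  · intro L _ _ _ L₁ _ h1 h2 t ht
    have hs : ∀ z : M ⊗[A] L, L₁.mkQ.lTensor M (x • z) = x • L₁.mkQ.lTensor M z :=
      fun z => (AlgebraTensorModule.lTensor B M L₁.mkQ).map_smul x z
    have hs' : ∀ z : M ⊗[A] L₁, L₁.subtype.lTensor M (x • z) = x • L₁.subtype.lTensor M z :=
      fun z => (AlgebraTensorModule.lTensor B M L₁.subtype).map_smul x z
    have h0 : L₁.mkQ.lTensor M t = 0 := h2 _ (by rw [← hs, ht, map_zero])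
    obtain ⟨y, rfl⟩ := (lTensor_exact M (LinearMap.exact_subtype_mkQ L₁) L₁.mkQ_surjective t).mp h0
    obtain ⟨N, hN⟩ := exists_pow_smul_eq_zero J hx hU L₁.subtype Subtype.val_injective (x • y)
      (by rw [hs', ht])
    have key : ∀ (N : ℕ) (z : M ⊗[A] L₁), x ^ N • z = 0 → z = 0 := by
      intro N
      induction N with
      | zero => intro z hz; simpa using hz
      | succ N ih => intro z hz; exact h1 z (ih _ (by rw [← mul_smul, ← pow_succ]; exact hz))
    rw [h1 y (key N _ hN), map_zero]

theorem flat_of_fibre_depth [IsNoetherianRing A] [IsNoetherianRing B] [IsLocalRing B]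
    [IsLocalHom (algebraMap A B)] [Module.Finite B M] (J : Ideal B)
    (hU : ∀ q : PrimeSpectrum B, ¬ J ≤ q.asIdeal → FlatCA.FlatAt A q.asIdeal M)
    (h1 : 1 ≤ LocCoh.idealDepth J (EGA4.FibMod A B M)) : Module.Flat A M := by
  obtain ⟨x, hx, hreg⟩ := LC15.exists_regular_of_idealDepth_pos J (M := EGA4.FibMod A B M) (by exact_mod_cast h1)
  refine FlatCrit65.flat_of_lexQuot_of_isLocalRing (S := B) (I := maximalIdeal A)
    (maximalIdeal.isMaximal A).ne_top fun n K => ?_
  rw [injective_iff_map_eq_zero]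
  intro t ht
  obtain ⟨N, hN⟩ := exists_pow_smul_eq_zero J hx hU K.subtype Subtype.val_injective t ht
  have hK : maximalIdeal A ^ n • (⊤ : Submodule A K) = ⊥ := by
    rw [eq_bot_iff, Submodule.smul_le]
    rintro a ha ⟨z, hz⟩ -
    obtain ⟨z, rfl⟩ := Ideal.Quotient.mk_surjective z
    refine (Submodule.mem_bot A).mpr (Subtype.ext ?_)
    exact Ideal.Quotient.eq_zero_iff_mem.mpr (Ideal.mul_mem_right z _ ha)
  have key : ∀ (N : ℕ) (z : M ⊗[A] K), x ^ N • z = 0 → z = 0 := by
    intro N
    induction N with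
    | zero => intro z hz; simpa using hz
    | succ N ih =>
      intro z hz
      exact tensor_regular J hx hU hreg n K hK z (ih _ (by rw [← mul_smul, ← pow_succ]; exact hz))
  exact key N t hN

theorem idealDepth_pi [IsNoetherianRing B] (J : Ideal B) {N : Type u} [AddCommGroup N] [Module B N]
    [Module.Finite B N] (k : ℕ∞) (h : k ≤ LocCoh.idealDepth J N) (r : ℕ) :
    k ≤ LocCoh.idealDepth J (Fin r → N) := by
  induction r with
  | zero => rw [LC17.idealDepth_of_subsingleton]; exact le_top
  | succ r ih =>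
    refine le_trans (le_min h ih) (LC15.idealDepth_shortExact (I := J)
      (f := LinearMap.single B (fun _ : Fin (r + 1) => N) 0)
      (g := LinearMap.funLeft B N (Fin.succ : Fin r → Fin (r + 1))) ?_ ?_ ?_).1
    · exact Pi.single_injective (M := fun _ : Fin (r + 1) => N) 0
    · exact LinearMap.funLeft_surjective_of_injective B N _ (Fin.succ_injective r)
    · intro v
      constructor
      · intro hv
        refine ⟨v 0, funext fun i => ?_⟩
        induction i using Fin.cases with
        | zero => simp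
        | succ i => simpa [eq_comm] using congrFun hv i
      · rintro ⟨a, rfl⟩
        funext i
        simp [LinearMap.funLeft]

theorem two_le_idealDepth_quotient [IsNoetherianRing A] [IsNoetherianRing B] [IsLocalRing B]
    [IsLocalHom (algebraMap A B)] [Module.Finite B M] (J : Ideal B)
    (hU : ∀ q : PrimeSpectrum B, ¬ J ≤ q.asIdeal → FlatCA.FlatAt A q.asIdeal M)
    (h2 : 2 ≤ LocCoh.idealDepth J (EGA4.FibMod A B M)) (n : ℕ) :
    2 ≤ LocCoh.idealDepth J (M ⧸ ((EGA4.mB A B) ^ (n + 1) • (⊤ : Submodule B M))) := by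
  haveI := flat_of_fibre_depth J hU (le_trans (by norm_num) h2)
  haveI := FlatCrit65.finite_tensor B (M := M) (R := A)
  have key : ∀ (L : Type u) [AddCommGroup L] [Module A L] [Module.Finite A L],
      maximalIdeal A ^ (n + 1) • (⊤ : Submodule A L) = ⊥ → 2 ≤ LocCoh.idealDepth J (M ⊗[A] L) := by
    intro L _ _ hfin hL
    refine fibre_pow_induction (Q := fun L _ _ => Module.Finite A L → 2 ≤ LocCoh.idealDepth J (M ⊗[A] L))
      ?_ ?_ (n + 1) L hL hfin
    · intro L _ _ _ hL _
      obtain ⟨r, ⟨e⟩⟩ := exists_equiv_pi L hL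
      rw [LC17.idealDepth_congr J ((AlgebraTensorModule.congr (LinearEquiv.refl B M) e).trans (tensorPiEquiv (B := B) r))]
      exact idealDepth_pi J 2 h2 r
    · intro L _ _ _ L₁ _ h1 h2' _
      exact le_trans (le_min (h1 inferInstance) (h2' inferInstance))
        (LC15.idealDepth_shortExact (I := J)
          (f := AlgebraTensorModule.lTensor B M L₁.subtype) (g := AlgebraTensorModule.lTensor B M L₁.mkQ)
          (Module.Flat.lTensor_preserves_injective_linearMap (M := M) L₁.subtype Subtype.val_injective)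
          (LinearMap.lTensor_surjective M L₁.mkQ_surjective)
          (lTensor_exact M (LinearMap.exact_subtype_mkQ L₁) L₁.mkQ_surjective)).1
  have hk := key (A ⧸ maximalIdeal A ^ (n + 1)) (by
    rw [eq_bot_iff, Submodule.smul_le]
    intro a ha z _
    obtain ⟨z, rfl⟩ := Ideal.Quotient.mk_surjective z
    exact (Submodule.mem_bot A).mpr (Ideal.Quotient.eq_zero_iff_mem.mpr (Ideal.mul_mem_right z _ ha)))
  rw [EGA4.mB, ← Ideal.map_pow]
  rwa [LC17.idealDepth_congr J (CAlg1.tensorQuotEquiv (S := B) (N := M) (maximalIdeal A ^ (n + 1)))]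

end Groth.Agent.Depth99
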