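import Groth.Agent.Depth99.Basic
import Groth.Agent.EGA4H10.FlatLocal
import Groth.Prelude.Def_EGA4b

universe u

open TensorProduct IsLocalRing

namespace Groth.Agent.Depth99

variable {A B : Type u} [CommRing A] [CommRing B] [Algebra A B] [IsNoetherianRing A] [IsNoetherianRing B]

theorem depth_loc_ge_fibre (q : Ideal B) [q.IsPrime] (E : Type u) [AddCommGroup E] [Module B E] [Module A E]
    [IsScalarTower A B E] [Module.Finite B E] [Module.Flat A E] :
    LocCoh.idealDepth (q.map (algebraMap B (EGA4.FibLocRing A B q))) (EGA4.FibLocMod A B q E) ≤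
      LocCoh.depth (Localization.AtPrime q) (LocalizedModule q.primeCompl E) := by
  let Bq := Localization.AtPrime q
  let p := q.comap (algebraMap A B)
  haveI : IsNoetherianRing Bq := IsLocalization.isNoetherianRing q.primeCompl _ inferInstance
  rcases subsingleton_or_nontrivial (LocalizedModule q.primeCompl E) with hs | hn
  · rw [EGA4Alg4.depth_of_subsingleton]; exact le_top
  set K := p.map (algebraMap A Bq) with hK
  have hKne : K ≠ ⊤ := by
    have hle : K ≤ maximalIdeal Bq := by
      rw [hK, ← Localization.AtPrime.map_eq_maximalIdeal (I := q), IsScalarTower.algebraMap_eq A B Bq,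
        ← Ideal.map_map]
      exact Ideal.map_mono Ideal.map_comap_le
    intro h
    exact (maximalIdeal.isMaximal Bq).ne_top (top_le_iff.mp (h ▸ hle))
  haveI : Nontrivial (Bq ⧸ K) := Ideal.Quotient.nontrivial_iff.mpr hKne
  haveI := IsLocalRing.of_surjective' (Ideal.Quotient.mk K) Ideal.Quotient.mk_surjective
  haveI : IsLocalHom (algebraMap Bq (Bq ⧸ K)) :=
    IsLocalHom.of_surjective _ (by rw [Ideal.Quotient.algebraMap_eq]; exact Ideal.Quotient.mk_surjective)
  haveI : Module.Finite Bq (LocalizedModule q.primeCompl E) :=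
    Module.Finite.of_isLocalizedModule q.primeCompl (LocalizedModule.mkLinearMap q.primeCompl E)
  have hmax : q.map (algebraMap B (EGA4.FibLocRing A B q)) = maximalIdeal (Bq ⧸ K) := by
    rw [show algebraMap B (EGA4.FibLocRing A B q) = (algebraMap Bq (Bq ⧸ K)).comp (algebraMap B Bq) from rfl,
      ← Ideal.map_map, Localization.AtPrime.map_eq_maximalIdeal,
      ← IsLocalRing.map_maximalIdeal_of_surjective (algebraMap Bq (Bq ⧸ K)) (by rw [Ideal.Quotient.algebraMap_eq]; exact Ideal.Quotient.mk_surjective)]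
  rw [hmax]
  change LocCoh.depth (Bq ⧸ K) (EGA4.FibLocMod A B q E) ≤ _
  rw [← EGA4Alg4.depth_eq_of_finite (A := Bq) (B := Bq ⧸ K) (EGA4.FibLocMod A B q E)]
  haveI : Nontrivial (LocalizedModule p.primeCompl A) := by
    refine ⟨⟨LocalizedModule.mk 1 1, 0, fun h => ?_⟩⟩
    rw [← LocalizedModule.zero_mk 1] at h
    obtain ⟨c, hc⟩ := LocalizedModule.mk_eq.mp h
    simp [Submonoid.smul_def] at hc
    exact c.2 (by rw [hc]; exact zero_mem p)
  have h := (EGA4H10.tensor_loc_invariants (A := A) (B := B) E A q).1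
  let e : LocalizedModule q.primeCompl (E ⊗[A] A) ≃ₗ[Bq] LocalizedModule q.primeCompl E :=
    LinearEquiv.ofBijective (LocalizedModule.map q.primeCompl (AlgebraTensorModule.rid A B E).toLinearMap)
      ⟨LocalizedModule.map_injective _ _ (AlgebraTensorModule.rid A B E).injective,
        LocalizedModule.map_surjective _ _ (AlgebraTensorModule.rid A B E).surjective⟩
  rw [EGA4Alg4.depth_eq_of_equiv e] at h
  rw [h]
  exact le_add_self

theorem two_le_idealDepth_of_fibres (J : Ideal B)
    (F E0 E1 : Type u) [AddCommGroup F] [Module B F] [Module.Finite B F]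
    [AddCommGroup E0] [Module B E0] [Module A E0] [IsScalarTower A B E0] [Module.Finite B E0] [Module.Flat A E0]
    [AddCommGroup E1] [Module B E1] [Module A E1] [IsScalarTower A B E1] [Module.Finite B E1] [Module.Flat A E1]
    (f : F →ₗ[B] E0) (u : E0 →ₗ[B] E1) (hf : Function.Injective f) (hfu : Function.Exact f u)
    (h0 : ∀ q : PrimeSpectrum B, J ≤ q.asIdeal →
      2 ≤ LocCoh.idealDepth (q.asIdeal.map (algebraMap B (EGA4.FibLocRing A B q.asIdeal))) (EGA4.FibLocMod A B q.asIdeal E0))
    (h1 : ∀ q : PrimeSpectrum B, J ≤ q.asIdeal →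
      1 ≤ LocCoh.idealDepth (q.asIdeal.map (algebraMap B (EGA4.FibLocRing A B q.asIdeal))) (EGA4.FibLocMod A B q.asIdeal E1)) :
    2 ≤ LocCoh.idealDepth J F := by
  rw [LC17.idealDepth_congr J ((LinearEquiv.ofInjective f hf).trans
    (LinearEquiv.ofEq _ _ (LinearMap.exact_iff.mp hfu).symm))]
  refine (idealDepth_ker J u).2 ?_ ?_
  · rw [LC17.idealDepth_eq_iInf]
    exact le_iInf₂ fun q hq => (h0 q hq).trans (depth_loc_ge_fibre q.asIdeal E0)
  · rw [LC17.idealDepth_eq_iInf]
    exact le_iInf₂ fun q hq => (h1 q hq).trans (depth_loc_ge_fibre q.asIdeal E1)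

end Groth.Agent.Depth99
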