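import Groth.Agent.Depth99.FibSelf
import Mathlib.RingTheory.Ideal.GoingDown
import Mathlib.RingTheory.Ideal.KrullsHeightTheorem

universe u

open TensorProduct IsLocalRing

namespace Groth.Agent.Depth99

variable {A B : Type u} [CommRing A] [CommRing B] [Algebra A B] [IsNoetherianRing B]

/-- a prime of `B` over `p`, minimal over `pB` -/
theorem exists_min_over (p : Ideal A) [p.IsPrime]
    (h : ∃ q : PrimeSpectrum B, q.asIdeal.comap (algebraMap A B) = p) :
    ∃ q : Ideal B, ∃ _ : q.IsPrime, q.comap (algebraMap A B) = p ∧ q ∈ (p.map (algebraMap A B)).minimalPrimes := by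
  obtain ⟨q₀, hq₀⟩ := h
  have hle : p.map (algebraMap A B) ≤ q₀.asIdeal := Ideal.map_le_iff_le_comap.mpr hq₀.ge
  obtain ⟨q, hq, hqle⟩ := Ideal.exists_minimalPrimes_le hle
  refine ⟨q, hq.1.1, le_antisymm ?_ (Ideal.map_le_iff_le_comap.mp hq.1.2), hq⟩
  rw [← hq₀]
  exact Ideal.comap_mono hqle

theorem height_eq_of_min [IsNoetherianRing A] [Module.Flat A B] (p : Ideal A) [p.IsPrime] (q : Ideal B) [q.IsPrime]
    (hc : q.comap (algebraMap A B) = p) (hq : q ∈ (p.map (algebraMap A B)).minimalPrimes) :
    q.height = p.height := by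
  haveI : q.LiesOver p := ⟨hc.symm⟩
  have h0 : (q.map (Ideal.Quotient.mk (p.map (algebraMap A B)))).height = 0 := by
    set K := p.map (algebraMap A B) with hK
    haveI : (q.map (Ideal.Quotient.mk K)).IsPrime :=
      Ideal.map_isPrime_of_surjective Ideal.Quotient.mk_surjective (by rw [Ideal.mk_ker]; exact hq.1.2)
    rw [Ideal.height_eq_zero_iff]
    have h2 : q ∈ Ideal.comap (Ideal.Quotient.mk K) '' (⊥ : Ideal (B ⧸ K)).minimalPrimes := by
      rw [← Ideal.comap_minimalPrimes_eq_of_surjective Ideal.Quotient.mk_surjective, ← RingHom.ker_eq_comap_bot,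
        Ideal.mk_ker]
      exact hq
    obtain ⟨Q, hQ, rfl⟩ := h2
    rw [Ideal.map_comap_of_surjective _ Ideal.Quotient.mk_surjective]
    exact hQ
  rw [Ideal.height_eq_height_add_of_liesOver_of_hasGoingDown p q, h0, add_zero]

variable [IsNoetherianRing A] [Module.Flat A B] (I : Ideal A)
  (hI : ∀ p : PrimeSpectrum A, I ≤ p.asIdeal → ∃ q : PrimeSpectrum B, q.asIdeal.comap (algebraMap A B) = p.asIdeal)

include hI in
theorem height_map_eq : (I.map (algebraMap A B)).height = I.height := by
  refine le_antisymm ?_ ?_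
  · rw [Ideal.height_eq_inf_minimalPrimes I]
    refine le_iInf₂ fun p hp => ?_
    haveI := hp.1.1
    obtain ⟨q, _, hc, hq⟩ := exists_min_over p (hI ⟨p, hp.1.1⟩ hp.1.2)
    rw [← height_eq_of_min p q hc hq]
    exact Ideal.height_mono (le_trans (Ideal.map_mono hp.1.2) hq.1.2)
  · rw [Ideal.height_eq_inf_minimalPrimes (I.map (algebraMap A B))]
    refine le_iInf₂ fun q hq => ?_
    haveI := hq.1.1
    haveI : q.LiesOver (q.comap (algebraMap A B)) := ⟨rfl⟩
    rw [Ideal.height_eq_height_add_of_liesOver_of_hasGoingDown (q.comap (algebraMap A B)) q]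
    exact le_trans (Ideal.height_mono (Ideal.map_le_iff_le_comap.mp hq.1.2)) le_self_add

variable (G : Type u) [AddCommGroup G] [Module A G] [Module.Finite A G]

omit [IsNoetherianRing A] [IsNoetherianRing B] [Module.Flat A B] [Module.Finite A G] in
theorem subsingleton_tensor_loc (q : Ideal B) [q.IsPrime]
    [hs : Subsingleton (LocalizedModule (q.comap (algebraMap A B)).primeCompl G)] :
    Subsingleton (LocalizedModule q.primeCompl (B ⊗[A] G)) := by
  rw [LocalizedModule.subsingleton_iff] at hs ⊢
  intro x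
  induction x using TensorProduct.induction_on with
  | zero => exact ⟨1, one_mem _, smul_zero _⟩
  | tmul b g =>
    obtain ⟨r, hr, hrg⟩ := hs g
    refine ⟨algebraMap A B r, hr, ?_⟩
    rw [algebraMap_smul, ← TensorProduct.tmul_smul, hrg, TensorProduct.tmul_zero]
  | add x y hx hy =>
    obtain ⟨r, hr, h1⟩ := hx
    obtain ⟨s, hs', h2⟩ := hy
    refine ⟨r * s, mul_mem hr hs', ?_⟩
    have e1 : (r * s) • x = 0 := by rw [mul_comm, mul_smul, h1, smul_zero]
    have e2 : (r * s) • y = 0 := by rw [mul_smul, h2, smul_zero]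
    rw [smul_add, e1, e2, add_zero]

include hI in
theorem idealDepth_baseChange :
    LocCoh.idealDepth (I.map (algebraMap A B)) (B ⊗[A] G) = LocCoh.idealDepth I G := by
  rw [LC17.idealDepth_eq_iInf, LC17.idealDepth_eq_iInf]
  refine le_antisymm (le_iInf₂ fun p hp => ?_) (le_iInf₂ fun q hq => ?_)
  · rcases subsingleton_or_nontrivial (LocalizedModule p.asIdeal.primeCompl G) with hs | hn
    · rw [EGA4Alg4.depth_of_subsingleton (M := LocalizedModule p.asIdeal.primeCompl G)]; exact le_top
    obtain ⟨q, _, hc, hq⟩ := exists_min_over p.asIdeal (hI p hp)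
    refine iInf₂_le_of_le ⟨q, inferInstance⟩ (le_trans (Ideal.map_mono hp) hq.1.2) ?_
    obtain ⟨p, hpp⟩ := p
    simp only at hc hn ⊢
    subst hc
    haveI : Nontrivial (LocalizedModule q.primeCompl B) := (selfLocEquiv q).toEquiv.nontrivial
    rw [(EGA4H10.tensor_loc_invariants (A := A) (B := B) B G q).1]
    haveI : IsNoetherianRing (Localization.AtPrime q) := IsLocalization.isNoetherianRing q.primeCompl _ inferInstance
    haveI : Module.Finite (Localization.AtPrime q) (EGA4.FibLocMod A B q B) := by
      haveI : Module.Finite (Localization.AtPrime q) (LocalizedModule q.primeCompl B) :=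
        Module.Finite.of_isLocalizedModule q.primeCompl (LocalizedModule.mkLinearMap q.primeCompl B)
      infer_instance
    haveI : Nontrivial (EGA4.FibLocMod A B q B) := by
      haveI : Nontrivial (EGA4.FibLocRing A B q) := Ideal.Quotient.nontrivial_iff.mpr fun h => by
        have hle : (q.comap (algebraMap A B)).map (algebraMap A (Localization.AtPrime q)) ≤ maximalIdeal _ := by
          rw [← Localization.AtPrime.map_eq_maximalIdeal (I := q), IsScalarTower.algebraMap_eq A B (Localization.AtPrime q),
            ← Ideal.map_map]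
          exact Ideal.map_mono Ideal.map_comap_le
        exact (maximalIdeal.isMaximal _).ne_top (top_le_iff.mp (h ▸ hle))
      exact (fibSelfEquiv (A := A) q).toEquiv.nontrivial
    have hdim := EGA4H10.supportDim_fibLocMod_le_zero (A := A) B q (by
      rwa [Module.annihilator_eq_bot.mpr inferInstance, sup_bot_eq])
    have h0 : LocCoh.depth (Localization.AtPrime q) (EGA4.FibLocMod A B q B) = 0 :=
      nonpos_iff_eq_zero.mp (WithBot.coe_le_coe.mp (le_trans EGA4Alg4.depth_le_supportDim hdim))
    rw [h0, add_zero]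
  · refine iInf₂_le_of_le ⟨q.asIdeal.comap (algebraMap A B), inferInstance⟩ (Ideal.map_le_iff_le_comap.mp hq) ?_
    rcases subsingleton_or_nontrivial (LocalizedModule (q.asIdeal.comap (algebraMap A B)).primeCompl G) with hs | hn
    · haveI := subsingleton_tensor_loc (A := A) G q.asIdeal
      rw [EGA4Alg4.depth_of_subsingleton (M := LocalizedModule q.asIdeal.primeCompl (B ⊗[A] G))]; exact le_top
    haveI : Nontrivial (LocalizedModule q.asIdeal.primeCompl B) := (selfLocEquiv q.asIdeal).toEquiv.nontrivial
    rw [(EGA4H10.tensor_loc_invariants (A := A) (B := B) B G q.asIdeal).1]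
    exact le_self_add

end Groth.Agent.Depth99
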