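import Groth.Agent.Depth99.FibreFlat
import Groth.Agent.FlatCrit65.Injective
import Groth.Agent.CAlg8.NilFlat
import Groth.Agent.EGA4H10.FlatLocal
import Mathlib.RingTheory.Flat.Equalizer

universe u

open TensorProduct IsLocalRing

namespace Groth.Agent.Depth99

variable {A B : Type u} [CommRing A] [CommRing B] [Algebra A B]

theorem rTensor_injective_of_flat_coker {N N' P L : Type u} [AddCommGroup N] [Module A N] [AddCommGroup N'] [Module A N']
    [AddCommGroup P] [Module A P] [AddCommGroup L] [Module A L] [Module.Flat A P]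
    (g : N →ₗ[A] N') (f : N' →ₗ[A] P) (hg : Function.Injective g) (hf : Function.Surjective f)
    (H : Function.Exact g f) : Function.Injective (g.rTensor L) :=
  (LinearMap.lTensor_inj_iff_rTensor_inj L g).mp (LinearMap.lTensor_injective_of_exact_of_flat f hf g hg H L)

/-- The kernel of `f ⊗ L` is killed by a power of `x` if the cokernel of `f` is flat off `V(x)`. -/
theorem exists_pow_smul_eq_zero_rTensor (J : Ideal B) {x : B} (hx : x ∈ J)
    {N N' P L : Type u} [AddCommGroup N] [Module B N] [Module A N] [IsScalarTower A B N]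
    [AddCommGroup N'] [Module B N'] [Module A N'] [IsScalarTower A B N']
    [AddCommGroup P] [Module B P] [Module A P] [IsScalarTower A B P] [AddCommGroup L] [Module A L]
    (f : N →ₗ[B] N') (g : N' →ₗ[B] P) (hf : Function.Injective f) (hg : Function.Surjective g)
    (hfg : Function.Exact f g)
    (hU : ∀ q : PrimeSpectrum B, ¬ J ≤ q.asIdeal → FlatCA.FlatAt A q.asIdeal P)
    (t : N ⊗[A] L) (ht : (f.restrictScalars A).rTensor L t = 0) : ∃ n : ℕ, x ^ n • t = 0 := by
  suffices h : x ∈ Ideal.radical (LinearMap.ker (LinearMap.toSpanSingleton B (N ⊗[A] L) t)) by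
    obtain ⟨n, hn⟩ := h
    exact ⟨n, by simpa using hn⟩
  rw [Ideal.radical_eq_sInf, Ideal.mem_sInf]
  rintro Q ⟨hQ, hQp⟩
  by_contra hxQ
  haveI : Module.Flat A (LocalizedModule Q.primeCompl P) := hU ⟨Q, hQp⟩ (fun h => hxQ (h hx))
  let fq := (LocalizedModule.map Q.primeCompl f).restrictScalars A
  let gq := (LocalizedModule.map Q.primeCompl g).restrictScalars A
  have hinj : Function.Injective (fq.rTensor L) :=
    rTensor_injective_of_flat_coker fq gq (LocalizedModule.map_injective _ _ hf)
      (LocalizedModule.map_surjective _ _ hg) (LocalizedModule.map_exact _ _ _ hfg)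
  let φ := AlgebraTensorModule.rTensor A L (LocalizedModule.mkLinearMap Q.primeCompl N)
  let φ' := AlgebraTensorModule.rTensor A L (LocalizedModule.mkLinearMap Q.primeCompl N')
  have hc : ∀ z : N ⊗[A] L, fq.rTensor L (φ z) = φ' ((f.restrictScalars A).rTensor L z) := by
    intro z
    induction z with
    | zero => simp
    | add a b ha hb => simp [ha, hb]
    | tmul m l => simp [φ, φ', fq, LocalizedModule.map_mk]
  have h0 : φ t = 0 := hinj (by rw [hc, ht, map_zero, map_zero])
  obtain ⟨s, hs⟩ := (IsLocalizedModule.eq_zero_iff Q.primeCompl φ).mp h0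
  exact s.2 (hQ (by simpa [Submonoid.smul_def] using hs))

variable [IsNoetherianRing A] [IsNoetherianRing B] [IsLocalRing A] [IsLocalRing B]
  [IsLocalHom (algebraMap A B)]

noncomputable def fibEquiv (N : Type u) [AddCommGroup N] [Module B N] [Module A N] [IsScalarTower A B N] :
    EGA4.FibMod A B N ≃ₗ[B] N ⊗[A] (A ⧸ maximalIdeal A) :=
  CAlg1.tensorQuotEquiv (S := B) (N := N) (maximalIdeal A)

theorem four_term (J : Ideal B)
    {F E0 E1 G : Type u} [AddCommGroup F] [Module B F] [Module A F] [IsScalarTower A B F] [Module.Finite B F]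
    [AddCommGroup E0] [Module B E0] [Module A E0] [IsScalarTower A B E0] [Module.Finite B E0] [Module.Flat A E0]
    [AddCommGroup E1] [Module B E1] [Module A E1] [IsScalarTower A B E1] [Module.Finite B E1] [Module.Flat A E1]
    [AddCommGroup G] [Module B G] [Module A G] [IsScalarTower A B G] [Module.Finite B G]
    (f : F →ₗ[B] E0) (u : E0 →ₗ[B] E1) (v : E1 →ₗ[B] G)
    (hf : Function.Injective f) (hfu : Function.Exact f u) (huv : Function.Exact u v) (hv : Function.Surjective v)
    (hGU : ∀ q : PrimeSpectrum B, ¬ J ≤ q.asIdeal → FlatCA.FlatAt A q.asIdeal G)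
    (h0 : 2 ≤ LocCoh.idealDepth J (EGA4.FibMod A B E0)) (h1 : 1 ≤ LocCoh.idealDepth J (EGA4.FibMod A B E1)) :
    (2 ≤ LocCoh.idealDepth J (EGA4.FibMod A B F) ↔ Module.Flat A G) ∧
    (Module.Flat A G ↔ ∀ n : ℕ, 2 ≤ LocCoh.idealDepth J (F ⧸ ((EGA4.mB A B) ^ (n + 1) • (⊤ : Submodule B F)))) ∧
    (Module.Flat A G → Module.Flat A F) := by
  set k := A ⧸ maximalIdeal A
  let I := LinearMap.range u
  let r : E0 →ₗ[B] I := u.rangeRestrict
  let i : I →ₗ[B] E1 := I.subtype
  have hr : Function.Surjective r := u.surjective_rangeRestrict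
  have hi : Function.Injective i := Subtype.val_injective
  have hfr : Function.Exact f r := fun z => by rw [← hfu z]; exact Subtype.ext_iff
  have hiv : Function.Exact i v := fun z => by
    rw [huv z]; exact ⟨fun ⟨w, hw⟩ => ⟨⟨z, w, hw⟩, rfl⟩, fun ⟨⟨w, y, hy⟩, hw⟩ => ⟨y, hy.trans hw⟩⟩
  haveI := FlatCrit65.finite_tensor B (M := F) (R := A) k
  haveI := FlatCrit65.finite_tensor B (M := E0) (R := A) k
  haveI := FlatCrit65.finite_tensor B (M := E1) (R := A) k
  haveI := FlatCrit65.finite_tensor B (M := I) (R := A) k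
  have e0 : 2 ≤ LocCoh.idealDepth J (E0 ⊗[A] k) := by rwa [← LC17.idealDepth_congr J (fibEquiv E0)]
  have e1 : 1 ≤ LocCoh.idealDepth J (E1 ⊗[A] k) := by rwa [← LC17.idealDepth_congr J (fibEquiv E1)]
  let fk := AlgebraTensorModule.rTensor A k f
  let rk := AlgebraTensorModule.rTensor A k r
  let ik := AlgebraTensorModule.rTensor A k i
  have ex0 : Function.Exact fk rk :=
    rTensor_exact (f := f.restrictScalars A) (g := r.restrictScalars A) k hfr hr
  have hrk : Function.Surjective rk := LinearMap.rTensor_surjective k (g := r.restrictScalars A) hr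
  have fwd : Module.Flat A G → Module.Flat A F ∧ 2 ≤ LocCoh.idealDepth J (EGA4.FibMod A B F) := by
    intro hG
    haveI : Module.Flat A I := CAlg8.NilFlat.flat_kernel (i.restrictScalars A) (v.restrictScalars A) hi hv hiv
    haveI : Module.Flat A F := CAlg8.NilFlat.flat_kernel (f.restrictScalars A) (r.restrictScalars A) hf hr hfr
    refine ⟨inferInstance, ?_⟩
    rw [LC17.idealDepth_congr J (fibEquiv F)]
    have hfk : Function.Injective fk :=
      rTensor_injective_of_flat_coker (f.restrictScalars A) (r.restrictScalars A) hf hr hfr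
    have hik : Function.Injective ik :=
      rTensor_injective_of_flat_coker (i.restrictScalars A) (v.restrictScalars A) hi hv hiv
    let e : (F ⊗[A] k) ≃ₗ[B] LinearMap.ker (ik.comp rk) :=
      (LinearEquiv.ofInjective fk hfk).trans (LinearEquiv.ofEq _ _ (by
        rw [LinearMap.ker_comp, LinearMap.ker_eq_bot.mpr hik, Submodule.comap_bot]
        exact (LinearMap.exact_iff.mp ex0).symm))
    rw [LC17.idealDepth_congr J e]
    exact (idealDepth_ker J (ik.comp rk)).2 e0 e1
  have bwd : 2 ≤ LocCoh.idealDepth J (EGA4.FibMod A B F) → Module.Flat A G := by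
    intro hF
    have hIU : ∀ q : PrimeSpectrum B, ¬ J ≤ q.asIdeal → FlatCA.FlatAt A q.asIdeal I := fun q hq => by
      haveI : Module.Flat A (LocalizedModule q.asIdeal.primeCompl G) := hGU q hq
      haveI : Module.Flat A (LocalizedModule q.asIdeal.primeCompl E1) := EGA4H10.flat_localizedModule _ _
      exact CAlg8.NilFlat.flat_kernel ((LocalizedModule.map q.asIdeal.primeCompl i).restrictScalars A)
        ((LocalizedModule.map q.asIdeal.primeCompl v).restrictScalars A)
        (LocalizedModule.map_injective _ _ hi) (LocalizedModule.map_surjective _ _ hv)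
        (LocalizedModule.map_exact _ _ _ hiv)
    have eF : 2 ≤ LocCoh.idealDepth J (F ⊗[A] k) := by rwa [← LC17.idealDepth_congr J (fibEquiv F)]
    have inj : ∀ {N N' P : Type u} [AddCommGroup N] [Module B N] [Module A N] [IsScalarTower A B N]
        [Module.Finite B N] [AddCommGroup N'] [Module B N'] [Module A N'] [IsScalarTower A B N']
        [AddCommGroup P] [Module B P] [Module A P] [IsScalarTower A B P]
        (a : N →ₗ[B] N') (b : N' →ₗ[B] P), Function.Injective a → Function.Surjective b → Function.Exact a b →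
        (∀ q : PrimeSpectrum B, ¬ J ≤ q.asIdeal → FlatCA.FlatAt A q.asIdeal P) →
        1 ≤ LocCoh.idealDepth J (N ⊗[A] k) → Function.Injective ((a.restrictScalars A).rTensor k) := by
      intro N N' P _ _ _ _ _ _ _ _ _ _ _ _ _ a b ha hb hab hU hd
      haveI := FlatCrit65.finite_tensor B (M := N) (R := A) k
      obtain ⟨x, hx, hreg⟩ := LC15.exists_regular_of_idealDepth_pos J (M := N ⊗[A] k) (by exact_mod_cast hd)
      rw [injective_iff_map_eq_zero]
      intro t ht
      obtain ⟨m, hm⟩ := exists_pow_smul_eq_zero_rTensor J hx a b ha hb hab hU t ht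
      exact hreg.pow m (by simpa using hm)
    have hfk : Function.Injective fk := inj f r hf hr hfr hIU (le_trans (by norm_num) eF)
    have eI : 1 ≤ LocCoh.idealDepth J (I ⊗[A] k) := by
      refine le_trans (le_min (le_trans (by norm_num) e0) ?_)
        (LC15.idealDepth_shortExact (I := J) (f := fk) (g := rk) hfk hrk ex0).2.1
      generalize LocCoh.idealDepth J (F ⊗[A] k) = d at eF ⊢
      induction d using ENat.recTopCoe with
      | top => simp
      | coe m => norm_cast at eF ⊢; omega
    have hik := inj i v hi hv hiv hGU eI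
    have hm : (maximalIdeal A).map (algebraMap A B) ≤ Ideal.jacobson ⊥ := by
      rw [IsLocalRing.jacobson_eq_maximalIdeal ⊥ bot_ne_top]
      exact ((IsLocalRing.local_hom_TFAE (algebraMap A B)).out 0 2 rfl rfl).mp inferInstance
    have hflat := (FlatCrit65.injective_and_flat_quotient (S := B) (maximalIdeal A) hm (i.restrictScalars A)
      ((LinearMap.lTensor_inj_iff_rTensor_inj k _).mpr hik)).2
    exact Module.Flat.of_linearEquiv ((LinearMap.exact_iff.mp (show Function.Exact (i.restrictScalars A) (v.restrictScalars A) from hiv)) ▸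
      ((v.restrictScalars A).quotKerEquivOfSurjective hv).symm :
      G ≃ₗ[A] E1 ⧸ LinearMap.range (i.restrictScalars A))
  refine ⟨⟨bwd, fun h => (fwd h).2⟩, ⟨fun h n => ?_, fun h => bwd ?_⟩, fun h => (fwd h).1⟩
  · haveI := (fwd h).1
    exact two_le_idealDepth_quotient J (fun q _ => EGA4H10.flat_localizedModule _ _) (fwd h).2 n
  · have := h 0
    rwa [zero_add, pow_one] at this

end Groth.Agent.Depth99
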