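import Groth.Agent.Depth99.FourTerm
import Groth.Agent.LC15.Gamma

universe u

open TensorProduct IsLocalRing

namespace Groth.Agent.Depth99

variable {B : Type u} [CommRing B] [IsNoetherianRing B]

theorem isPowerTorsion_of_forall (J : Ideal B) {C : Type u} [AddCommGroup C] [Module B C]
    (h : ∀ c : C, ∀ a ∈ J, ∃ n : ℕ, a ^ n • c = 0) : LocCoh.IsPowerTorsion J C := by
  intro c
  have hle : J ≤ Ideal.radical (LinearMap.ker (LinearMap.toSpanSingleton B C c)) := fun a ha => by
    obtain ⟨n, hn⟩ := h c a ha
    exact ⟨n, by simpa using hn⟩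
  obtain ⟨k, hk⟩ := Ideal.exists_pow_le_of_le_radical_of_fg hle (IsNoetherian.noetherian J)
  exact ⟨k, fun a ha => by simpa using hk ha⟩

variable {A : Type u} [CommRing A] [Algebra A B] [IsNoetherianRing A] [IsLocalRing A]

theorem idealDepth_tensor (J : Ideal B) {M : Type u} [AddCommGroup M] [Module B M] [Module A M] [IsScalarTower A B M]
    [Module.Finite B M] [Module.Flat A M] (d : ℕ∞) (hd : d ≤ LocCoh.idealDepth J (EGA4.FibMod A B M))
    (n : ℕ) (L : Type u) [AddCommGroup L] [Module A L] [Module.Finite A L]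
    (hL : maximalIdeal A ^ n • (⊤ : Submodule A L) = ⊥) : d ≤ LocCoh.idealDepth J (M ⊗[A] L) := by
  haveI := FlatCrit65.finite_tensor B (M := M) (R := A)
  refine fibre_pow_induction (Q := fun L _ _ => Module.Finite A L → d ≤ LocCoh.idealDepth J (M ⊗[A] L))
    ?_ ?_ n L hL inferInstance
  · intro L _ _ _ hL _
    obtain ⟨r, ⟨e⟩⟩ := exists_equiv_pi L hL
    rw [LC17.idealDepth_congr J ((AlgebraTensorModule.congr (LinearEquiv.refl B M) e).trans (tensorPiEquiv (B := B) r))]
    exact idealDepth_pi J d hd r
  · intro L _ _ _ L₁ _ h1 h2' _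
    exact le_trans (le_min (h1 inferInstance) (h2' inferInstance))
      (LC15.idealDepth_shortExact (I := J)
        (f := AlgebraTensorModule.lTensor B M L₁.subtype) (g := AlgebraTensorModule.lTensor B M L₁.mkQ)
        (Module.Flat.lTensor_preserves_injective_linearMap (M := M) L₁.subtype Subtype.val_injective)
        (LinearMap.lTensor_surjective M L₁.mkQ_surjective)
        (lTensor_exact M (LinearMap.exact_subtype_mkQ L₁) L₁.mkQ_surjective)).1

section K

variable {E0 E1 : Type u} [AddCommGroup E0] [Module B E0] [Module A E0] [IsScalarTower A B E0]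
  [AddCommGroup E1] [Module B E1] [Module A E1] [IsScalarTower A B E1]

variable (A) in
/-- the kernel of `u ⊗ L` -/
abbrev KT (u : E0 →ₗ[B] E1) (L : Type u) [AddCommGroup L] [Module A L] : Submodule B (E0 ⊗[A] L) :=
  LinearMap.ker (AlgebraTensorModule.rTensor A L u)

omit [IsNoetherianRing B] [IsNoetherianRing A] [IsLocalRing A] in
theorem rTensor_lTensor (u : E0 →ₗ[B] E1) {L L' : Type u} [AddCommGroup L] [Module A L] [AddCommGroup L']
    [Module A L'] (g : L →ₗ[A] L') (z : E0 ⊗[A] L) :
    AlgebraTensorModule.rTensor A L' u (AlgebraTensorModule.lTensor B E0 g z) =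
      AlgebraTensorModule.lTensor B E1 g (AlgebraTensorModule.rTensor A L u z) := by
  induction z using TensorProduct.induction_on with
  | zero => simp
  | tmul m l => rfl
  | add a b ha hb => simp only [map_add, ha, hb]

/-- functoriality of `KT` -/
noncomputable def kmap (u : E0 →ₗ[B] E1) {L L' : Type u} [AddCommGroup L] [Module A L] [AddCommGroup L']
    [Module A L'] (g : L →ₗ[A] L') : KT A u L →ₗ[B] KT A u L' :=
  (AlgebraTensorModule.lTensor B E0 g).restrict fun z hz => by
    rw [LinearMap.mem_ker] at hz ⊢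
    rw [rTensor_lTensor, hz, map_zero]

omit [IsNoetherianRing B] [IsNoetherianRing A] [IsLocalRing A] in
theorem kmap_coe (u : E0 →ₗ[B] E1) {L L' : Type u} [AddCommGroup L] [Module A L] [AddCommGroup L']
    [Module A L'] (g : L →ₗ[A] L') (z : KT A u L) :
    (kmap u g z : E0 ⊗[A] L') = AlgebraTensorModule.lTensor B E0 g z.1 := rfl

variable [Module.Flat A E0] [Module.Flat A E1]

omit [IsNoetherianRing B] [IsNoetherianRing A] [IsLocalRing A] [Module.Flat A E1] in
theorem kmap_injective (u : E0 →ₗ[B] E1) {L L' : Type u} [AddCommGroup L] [Module A L] [AddCommGroup L']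
    [Module A L'] (g : L →ₗ[A] L') (hg : Function.Injective g) : Function.Injective (kmap u g) :=
  fun _ _ h => Subtype.ext ((Module.Flat.lTensor_preserves_injective_linearMap (M := E0) g hg) (congrArg Subtype.val h))

omit [IsNoetherianRing B] [IsNoetherianRing A] [IsLocalRing A] [Module.Flat A E0] in
theorem kmap_exact (u : E0 →ₗ[B] E1) {L L' L'' : Type u} [AddCommGroup L] [Module A L] [AddCommGroup L']
    [Module A L'] [AddCommGroup L''] [Module A L''] (g : L →ₗ[A] L') (g' : L' →ₗ[A] L'')
    (hg : Function.Injective g) (hgg' : Function.Exact g g') (hg' : Function.Surjective g') :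
    Function.Exact (kmap u g) (kmap u g') := by
  have hex := lTensor_exact E0 hgg' hg'
  intro z
  constructor
  · intro hz
    obtain ⟨t, ht⟩ := (hex z.1).mp (congrArg Subtype.val hz)
    refine ⟨⟨t, ?_⟩, Subtype.ext ht⟩
    rw [LinearMap.mem_ker]
    apply (Module.Flat.lTensor_preserves_injective_linearMap (M := E1) g hg)
    rw [map_zero]
    have := rTensor_lTensor u g t
    rw [show AlgebraTensorModule.lTensor B E0 g t = z.1 from ht, LinearMap.mem_ker.mp z.2] at this
    exact this.symm
  · rintro ⟨t, rfl⟩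
    exact Subtype.ext (hex.apply_apply_eq_zero t.1)

end K

theorem four_term_H2 [IsLocalRing B] [IsLocalHom (algebraMap A B)] (J : Ideal B)
    {F E0 E1 G : Type u} [AddCommGroup F] [Module B F] [Module A F] [IsScalarTower A B F] [Module.Finite B F]
    [AddCommGroup E0] [Module B E0] [Module A E0] [IsScalarTower A B E0] [Module.Finite B E0] [Module.Flat A E0]
    [AddCommGroup E1] [Module B E1] [Module A E1] [IsScalarTower A B E1] [Module.Finite B E1] [Module.Flat A E1]
    [AddCommGroup G] [Module B G] [Module A G] [IsScalarTower A B G] [Module.Finite B G]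
    (f : F →ₗ[B] E0) (u : E0 →ₗ[B] E1) (v : E1 →ₗ[B] G)
    (hf : Function.Injective f) (hfu : Function.Exact f u) (huv : Function.Exact u v) (hv : Function.Surjective v)
    (hGU : ∀ q : PrimeSpectrum B, ¬ J ≤ q.asIdeal → FlatCA.FlatAt A q.asIdeal G)
    (h0 : 2 ≤ LocCoh.idealDepth J (EGA4.FibMod A B E0)) (h1 : 1 ≤ LocCoh.idealDepth J (EGA4.FibMod A B E1))
    (hH2 : Subsingleton (LocCoh.H J 2 (EGA4.FibMod A B F))) :
    Module.Flat A F ∧ Module.Flat A G ∧ 2 ≤ LocCoh.idealDepth J (EGA4.FibMod A B F) := by
  suffices hG : Module.Flat A G by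
    obtain ⟨a, -, c⟩ := four_term J f u v hf hfu huv hv hGU h0 h1
    exact ⟨c hG, hG, a.mpr hG⟩
  set k := A ⧸ maximalIdeal A
  let I := LinearMap.range u
  let r : E0 →ₗ[B] I := u.rangeRestrict
  let i : I →ₗ[B] E1 := I.subtype
  have hr : Function.Surjective r := u.surjective_rangeRestrict
  have hi : Function.Injective i := Subtype.val_injective
  have hfr : Function.Exact f r := fun z => by rw [← hfu z]; exact Subtype.ext_iff
  have hiv : Function.Exact i v := fun z => by
    rw [huv z]; exact ⟨fun ⟨w, hw⟩ => ⟨⟨z, w, hw⟩, rfl⟩, fun ⟨⟨w, y, hy⟩, hw⟩ => ⟨y, hy.trans hw⟩⟩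
  have hIU : ∀ q : PrimeSpectrum B, ¬ J ≤ q.asIdeal → FlatCA.FlatAt A q.asIdeal I := fun q hq => by
    haveI : Module.Flat A (LocalizedModule q.asIdeal.primeCompl G) := hGU q hq
    haveI : Module.Flat A (LocalizedModule q.asIdeal.primeCompl E1) := EGA4H10.flat_localizedModule _ _
    exact CAlg8.NilFlat.flat_kernel ((LocalizedModule.map q.asIdeal.primeCompl i).restrictScalars A)
      ((LocalizedModule.map q.asIdeal.primeCompl v).restrictScalars A)
      (LocalizedModule.map_injective _ _ hi) (LocalizedModule.map_surjective _ _ hv)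
      (LocalizedModule.map_exact _ _ _ hiv)
  -- `F ⊗ L → K(L)` has torsion kernel and cokernel
  have hu : ∀ (L : Type u) [AddCommGroup L] [Module A L] (z : E0 ⊗[A] L),
      AlgebraTensorModule.rTensor A L u z =
        AlgebraTensorModule.rTensor A L i (AlgebraTensorModule.rTensor A L r z) := by
    intro L _ _ z
    induction z using TensorProduct.induction_on with
    | zero => simp
    | tmul m l => rfl
    | add a b ha hb => simp only [map_add, ha, hb]
  have htors : ∀ (L : Type u) [AddCommGroup L] [Module A L] (z : E0 ⊗[A] L),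
      AlgebraTensorModule.rTensor A L u z = 0 → ∀ a ∈ J,
      ∃ (N : ℕ) (w : F ⊗[A] L), AlgebraTensorModule.rTensor A L f w = a ^ N • z := by
    intro L _ _ z hz a ha
    obtain ⟨N, hN⟩ := exists_pow_smul_eq_zero_rTensor (L := L) J ha i v hi hv hiv hGU
      (AlgebraTensorModule.rTensor A L r z) (by rw [hu] at hz; exact hz)
    rw [← map_smul] at hN
    obtain ⟨w, hw⟩ := ((rTensor_exact (f := f.restrictScalars A) (g := r.restrictScalars A) L hfr hr) _).mp hN
    exact ⟨N, w, hw⟩
  haveI hfinF : ∀ (L : Type u) [AddCommGroup L] [Module A L] [Module.Finite A L], Module.Finite B (F ⊗[A] L) :=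
    fun L _ _ _ => FlatCrit65.finite_tensor B (M := F) (R := A) L
  haveI := FlatCrit65.finite_tensor B (M := E0) (R := A)
  haveI := FlatCrit65.finite_tensor B (M := E1) (R := A)
  have hK2 : ∀ (n : ℕ) (L : Type u) [AddCommGroup L] [Module A L] [Module.Finite A L],
      maximalIdeal A ^ n • (⊤ : Submodule A L) = ⊥ → 2 ≤ LocCoh.idealDepth J (KT A u L) := by
    intro n L _ _ _ hL
    exact (idealDepth_ker J _).2 (idealDepth_tensor J 2 h0 n L hL) (idealDepth_tensor J 1 h1 n L hL)
  -- `K(k)` has depth `≥ 3`
  have hkk : 3 ≤ LocCoh.idealDepth J (KT A u k) := by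
    let φ : F ⊗[A] k →ₗ[B] KT A u k := (AlgebraTensorModule.rTensor A k f).codRestrict _ fun w => by
      rw [LinearMap.mem_ker, hu, show AlgebraTensorModule.rTensor A k r (AlgebraTensorModule.rTensor A k f w) = 0 from
        (rTensor_exact (f := f.restrictScalars A) (g := r.restrictScalars A) k hfr hr).apply_apply_eq_zero w, map_zero]
    have hkerφ : LocCoh.IsPowerTorsion J (LinearMap.ker φ) := isPowerTorsion_of_forall J fun c a ha => by
      obtain ⟨N, hN⟩ := exists_pow_smul_eq_zero_rTensor (L := k) J ha f r hf hr hfr hIU c.1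
        (congrArg Subtype.val (LinearMap.mem_ker.mp c.2))
      exact ⟨N, Subtype.ext hN⟩
    have hcokφ : LocCoh.IsPowerTorsion J (KT A u k ⧸ LinearMap.range φ) := isPowerTorsion_of_forall J fun c a ha => by
      obtain ⟨c, rfl⟩ := Submodule.mkQ_surjective _ c
      obtain ⟨N, w, hw⟩ := htors k c.1 c.2 a ha
      refine ⟨N, ?_⟩
      rw [← map_smul, Submodule.mkQ_apply, Submodule.Quotient.mk_eq_zero]
      exact ⟨w, Subtype.ext hw⟩
    have hF2 : Subsingleton (LocCoh.H J 2 (F ⊗[A] k)) :=
      (LC15.Hequiv J 2 (fibEquiv (A := A) (B := B) F).symm).injective.subsingleton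
    have hP : Subsingleton (LocCoh.H J 2 (LinearMap.range φ)) :=
      LC15.subsingleton_H_right J 2 (f := (LinearMap.ker φ).subtype) (g := φ.rangeRestrict) Subtype.val_injective
        (LinearMap.exact_iff.mpr (by rw [Submodule.range_subtype, LinearMap.ker_rangeRestrict]))
        φ.surjective_rangeRestrict hF2 (LC15.subsingleton_H_of_powerTorsion J hkerφ (by norm_num))
    have hKk : Subsingleton (LocCoh.H J 2 (KT A u k)) :=
      LC15.subsingleton_H_middle J 2 (f := (LinearMap.range φ).subtype) (g := (LinearMap.range φ).mkQ)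
        Subtype.val_injective (LinearMap.exact_subtype_mkQ _) (Submodule.mkQ_surjective _) hP
        (LC15.subsingleton_H_of_powerTorsion J hcokφ (by norm_num))
    have h2 : ((2 : ℕ) : ℕ∞) ≤ LocCoh.idealDepth J (KT A u k) := by
      refine le_trans (le_of_eq (by norm_num)) (hK2 1 k ?_)
      rw [pow_one, eq_bot_iff, Submodule.smul_le]
      intro a ha z _
      obtain ⟨z, rfl⟩ := Ideal.Quotient.mk_surjective z
      exact (Submodule.mem_bot A).mpr (Ideal.Quotient.eq_zero_iff_mem.mpr (Ideal.mul_mem_right z _ ha))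
    rw [show (3 : ℕ∞) = ((3 : ℕ) : ℕ∞) by norm_num, LC17.natCast_le_idealDepth_iff]
    intro j hj
    interval_cases j
    · exact (LC17.natCast_le_idealDepth_iff J _ 2).mp h2 0 (by norm_num)
    · exact (LC17.natCast_le_idealDepth_iff J _ 2).mp h2 1 (by norm_num)
    · exact hKk
  -- depth `≥ 3` on modules killed by the maximal ideal
  have hk3 : ∀ (L : Type u) [AddCommGroup L] [Module A L] [Module.Finite A L],
      maximalIdeal A • (⊤ : Submodule A L) = ⊥ → 3 ≤ LocCoh.idealDepth J (KT A u L) := by
    intro L _ _ _ hL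
    obtain ⟨s, ⟨e⟩⟩ := exists_equiv_pi L hL
    have hpi : ∀ s : ℕ, 3 ≤ LocCoh.idealDepth J (KT A u (Fin s → k)) := by
      intro s
      induction s with
      | zero =>
        haveI : Subsingleton (KT A u (Fin 0 → k)) := inferInstance
        rw [LC17.idealDepth_of_subsingleton]; exact le_top
      | succ s ih =>
        let g := LinearMap.single A (fun _ : Fin (s + 1) => k) 0
        let g' := LinearMap.funLeft A k (Fin.succ : Fin s → Fin (s + 1))
        have hg : Function.Injective g := Pi.single_injective (M := fun _ : Fin (s + 1) => k) 0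
        have hg' : Function.Surjective g' := LinearMap.funLeft_surjective_of_injective A k _ (Fin.succ_injective s)
        have hgg' : Function.Exact g g' := by
          intro z
          constructor
          · intro hz
            refine ⟨z 0, funext fun j => ?_⟩
            cases j using Fin.cases with
            | zero => simp [g]
            | succ j => simpa [g, g', eq_comm] using congrFun hz j
          · rintro ⟨a, rfl⟩
            funext j
            simp [g, g', LinearMap.funLeft]
        let σ : (Fin s → k) →ₗ[A] (Fin (s + 1) → k) :=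
          LinearMap.pi (Fin.cases 0 fun j => LinearMap.proj j)
        have hσ : g' ∘ₗ σ = LinearMap.id := LinearMap.ext fun z => funext fun j => by
          simp [g', σ, LinearMap.funLeft]
        refine le_trans (le_min hkk ih) (LC15.idealDepth_shortExact (I := J) (f := kmap u g) (g := kmap u g')
          (kmap_injective u g hg) (fun z => ⟨kmap u σ z, Subtype.ext ?_⟩) (kmap_exact u g g' hg hgg' hg')).1
        rw [kmap_coe, kmap_coe, ← LinearMap.comp_apply, ← AlgebraTensorModule.lTensor_comp, hσ,
          AlgebraTensorModule.lTensor_id, LinearMap.id_apply]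
    let eK : KT A u L ≃ₗ[B] KT A u (Fin s → k) :=
      LinearEquiv.ofBijective (kmap u e.toLinearMap) ⟨kmap_injective u _ e.injective, fun z =>
        ⟨kmap u e.symm.toLinearMap z, Subtype.ext (by
          rw [kmap_coe, kmap_coe, ← LinearMap.comp_apply, ← AlgebraTensorModule.lTensor_comp]
          simp)⟩⟩
    rw [LC17.idealDepth_congr J eK]
    exact hpi s
  -- lifting along small extensions
  have hlift : ∀ (n : ℕ) (L : Type u) [AddCommGroup L] [Module A L] [Module.Finite A L] (L₁ : Submodule A L),
      maximalIdeal A ^ n • (⊤ : Submodule A L) = ⊥ → maximalIdeal A • (⊤ : Submodule A L₁) = ⊥ →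
      Function.Surjective (kmap u L₁.mkQ) := by
    intro n L _ _ _ L₁ hL hL₁
    set π := kmap u L₁.mkQ
    have hL2 : maximalIdeal A ^ n • (⊤ : Submodule A (L ⧸ L₁)) = ⊥ := by
      rw [← LinearMap.range_eq_top.mpr L₁.mkQ_surjective, ← Submodule.map_top, ← Submodule.map_smul'', hL,
        Submodule.map_bot]
    have hQ : ((2 : ℕ) : ℕ∞) ≤ LocCoh.idealDepth J (LinearMap.range π) := by
      refine le_trans (le_min ?_ ?_) (LC15.idealDepth_shortExact (I := J) (f := kmap u L₁.subtype)
        (g := π.rangeRestrict) (kmap_injective u _ Subtype.val_injective) π.surjective_rangeRestrict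
        (fun z => by
          rw [← (kmap_exact u L₁.subtype L₁.mkQ Subtype.val_injective (LinearMap.exact_subtype_mkQ L₁)
            L₁.mkQ_surjective) z]
          exact Subtype.ext_iff)).2.1
      · exact_mod_cast hK2 n L hL
      · have := hk3 L₁ hL₁
        generalize LocCoh.idealDepth J (KT A u L₁) = d at this ⊢
        induction d using ENat.recTopCoe with
        | top => simp
        | coe m => norm_cast at this ⊢; omega
    let C := KT A u (L ⧸ L₁) ⧸ LinearMap.range π
    have hC0 : Subsingleton (LocCoh.H J 0 C) :=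
      LC15.subsingleton_H_right J 0 (f := (LinearMap.range π).subtype) (g := (LinearMap.range π).mkQ)
        Subtype.val_injective (LinearMap.exact_subtype_mkQ _) (Submodule.mkQ_surjective _)
        ((LC17.natCast_le_idealDepth_iff J _ 2).mp (by exact_mod_cast hK2 n _ hL2) 0 (by norm_num))
        ((LC17.natCast_le_idealDepth_iff J _ 2).mp hQ 1 (by norm_num))
    have hC : LocCoh.IsPowerTorsion J C := isPowerTorsion_of_forall J fun c a ha => by
      obtain ⟨c, rfl⟩ := Submodule.mkQ_surjective _ c
      obtain ⟨N, w, hw⟩ := htors _ c.1 c.2 a ha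
      obtain ⟨w', rfl⟩ := LinearMap.lTensor_surjective F L₁.mkQ_surjective w
      refine ⟨N, ?_⟩
      rw [← map_smul, Submodule.mkQ_apply, Submodule.Quotient.mk_eq_zero]
      refine ⟨⟨AlgebraTensorModule.rTensor A L f w', ?_⟩, Subtype.ext ?_⟩
      · rw [LinearMap.mem_ker, hu, show AlgebraTensorModule.rTensor A L r (AlgebraTensorModule.rTensor A L f w') = 0
          from (rTensor_exact (f := f.restrictScalars A) (g := r.restrictScalars A) L hfr hr).apply_apply_eq_zero w',
          map_zero]
      · rw [kmap_coe, ← rTensor_lTensor]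
        exact hw
    have htop := LC15.gamma_eq_top_iff J |>.mpr hC
    rw [(LC15.subsingleton_H0_iff J C).mp hC0] at htop
    intro z
    have hz : (LinearMap.range π).mkQ z = 0 := by
      have : (LinearMap.range π).mkQ z ∈ (⊥ : Submodule B C) := htop.symm ▸ Submodule.mem_top
      exact (Submodule.mem_bot B).mp this
    exact (Submodule.Quotient.mk_eq_zero _).mp hz
  have hpow : ∀ n : ℕ, ∀ x : KT A u k, ∃ x0 : E0, u x0 ∈ EGA4.mB A B ^ (n + 1) • (⊤ : Submodule B E1) ∧
      (x : E0 ⊗[A] k) = x0 ⊗ₜ (1 : k) := by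
    intro n x
    have key : ∀ m : ℕ, ∃ z : KT A u (A ⧸ maximalIdeal A ^ (m + 1)),
        AlgebraTensorModule.lTensor B E0
          (Submodule.factor (show maximalIdeal A ^ (m + 1) ≤ maximalIdeal A from Ideal.pow_le_self (Nat.succ_ne_zero m)))
          z.1 = x.1 := by
      intro m
      induction m with
      | zero =>
        have hbij : Function.Bijective
            (Submodule.factor (show maximalIdeal A ^ (0 + 1) ≤ maximalIdeal A from Ideal.pow_le_self (Nat.succ_ne_zero 0))) := by
          refine ⟨?_, Submodule.factor_surjective _⟩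
          rw [injective_iff_map_eq_zero]
          intro z hz
          obtain ⟨z, rfl⟩ := Submodule.mkQ_surjective _ z
          have hz' : Submodule.Quotient.mk z = (0 : A ⧸ maximalIdeal A) := hz
          rw [Submodule.Quotient.mk_eq_zero] at hz'
          rw [Submodule.mkQ_apply, Submodule.Quotient.mk_eq_zero]
          simpa using hz'
        refine ⟨kmap u (LinearEquiv.ofBijective _ hbij).symm.toLinearMap x, ?_⟩
        rw [kmap_coe, ← LinearMap.comp_apply, ← AlgebraTensorModule.lTensor_comp]
        simp [show Submodule.factor (show maximalIdeal A ^ (0 + 1) ≤ maximalIdeal A from Ideal.pow_le_self (Nat.succ_ne_zero 0)) ∘ₗ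
          (LinearEquiv.ofBijective _ hbij).symm.toLinearMap = LinearMap.id from
          LinearMap.ext fun y => (LinearEquiv.ofBijective _ hbij).apply_symm_apply y]
      | succ m ih =>
        obtain ⟨z, hz⟩ := ih
        let g := Submodule.factor (Ideal.pow_le_pow_right (I := maximalIdeal A) (Nat.le_succ (m + 1)))
        have hgs : Function.Surjective g := Submodule.factor_surjective _
        have hkill : ∀ d : ℕ, maximalIdeal A ^ d • (⊤ : Submodule A (A ⧸ maximalIdeal A ^ d)) = ⊥ := fun d => by
          rw [eq_bot_iff, Submodule.smul_le]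
          intro a ha y _
          obtain ⟨y, rfl⟩ := Ideal.Quotient.mk_surjective y
          exact (Submodule.mem_bot A).mpr (Ideal.Quotient.eq_zero_iff_mem.mpr (Ideal.mul_mem_right y _ ha))
        have hkerg : maximalIdeal A • (⊤ : Submodule A (LinearMap.ker g)) = ⊥ := by
          rw [eq_bot_iff, Submodule.smul_le]
          rintro a ha ⟨y, hy⟩ _
          obtain ⟨y, rfl⟩ := Submodule.mkQ_surjective _ y
          refine (Submodule.mem_bot A).mpr (Subtype.ext ?_)
          have hy' : Submodule.Quotient.mk y = (0 : A ⧸ maximalIdeal A ^ (m + 1)) := hy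
          rw [Submodule.Quotient.mk_eq_zero] at hy'
          show a • Submodule.Quotient.mk y = 0
          rw [← Submodule.Quotient.mk_smul, Submodule.Quotient.mk_eq_zero, pow_succ', smul_eq_mul]
          exact Ideal.mul_mem_mul ha hy'
        let e := g.quotKerEquivOfSurjective hgs
        obtain ⟨z', hz'⟩ := hlift _ _ (LinearMap.ker g) (hkill (m + 1 + 1)) hkerg (kmap u e.symm.toLinearMap z)
        refine ⟨z', ?_⟩
        have hfac : Submodule.factor (show maximalIdeal A ^ (m + 1 + 1) ≤ maximalIdeal A from Ideal.pow_le_self (Nat.succ_ne_zero (m + 1))) =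
            Submodule.factor (show maximalIdeal A ^ (m + 1) ≤ maximalIdeal A from Ideal.pow_le_self (Nat.succ_ne_zero m)) ∘ₗ
              e.toLinearMap ∘ₗ (LinearMap.ker g).mkQ := by
          refine Submodule.linearMap_qext _ (LinearMap.ext fun y => ?_)
          simp [e, g]
        rw [hfac, AlgebraTensorModule.lTensor_comp, AlgebraTensorModule.lTensor_comp, LinearMap.comp_apply,
          LinearMap.comp_apply, ← kmap_coe u (LinearMap.ker g).mkQ, hz', kmap_coe, ← LinearMap.comp_apply (f := AlgebraTensorModule.lTensor B E0 e.toLinearMap), ← AlgebraTensorModule.lTensor_comp]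
        simpa using hz
    obtain ⟨z, hz⟩ := key n
    let t := CAlg1.tensorQuotEquiv (S := B) (N := E0) (maximalIdeal A ^ (n + 1))
    obtain ⟨x0, hx0⟩ := Submodule.mkQ_surjective _ (t.symm z.1)
    have hzx : z.1 = x0 ⊗ₜ (1 : A ⧸ maximalIdeal A ^ (n + 1)) := by
      rw [← t.apply_symm_apply z.1, ← hx0]; rfl
    refine ⟨x0, ?_, ?_⟩
    · rw [EGA4.mB, ← Ideal.map_pow]
      have h0' : (CAlg1.tensorQuotEquiv (S := B) (N := E1) (maximalIdeal A ^ (n + 1))) (Submodule.Quotient.mk (u x0)) = 0 := by
        have := z.2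
        rw [LinearMap.mem_ker, hzx] at this
        exact this
      exact (Submodule.Quotient.mk_eq_zero _).mp ((LinearEquiv.map_eq_zero_iff _).mp h0')
    · rw [← hz, hzx]
      rfl
  have hik : Function.Injective ((i.restrictScalars A).rTensor k) := by
    rw [injective_iff_map_eq_zero]
    intro y hy
    obtain ⟨z, rfl⟩ := LinearMap.rTensor_surjective k (g := r.restrictScalars A) hr y
    have hzK : z ∈ KT A u k := by rw [LinearMap.mem_ker, hu]; exact hy
    obtain ⟨c, hc⟩ := Ideal.exists_pow_inf_eq_pow_smul (EGA4.mB A B) I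
    obtain ⟨x0, hx0, hzx⟩ := hpow c ⟨z, hzK⟩
    rw [show z = x0 ⊗ₜ[A] (1 : k) from hzx]
    show (r x0) ⊗ₜ[A] (1 : k) = 0
    have hmem : u x0 ∈ EGA4.mB A B • I := by
      have h2 : u x0 ∈ EGA4.mB A B ^ (c + 1) • (⊤ : Submodule B E1) ⊓ I := ⟨hx0, x0, rfl⟩
      rw [hc (c + 1) (Nat.le_succ c)] at h2
      refine Submodule.smul_mono ?_ inf_le_right h2
      rw [Nat.add_sub_cancel_left, pow_one]
    have hr0 : r x0 ∈ EGA4.mB A B • (⊤ : Submodule B I) := (Submodule.mem_smul_top_iff _ _ _).mpr hmem
    have h3 : (CAlg1.tensorQuotEquiv (S := B) (N := I) (maximalIdeal A)) (Submodule.Quotient.mk (r x0)) = 0 := by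
      rw [(Submodule.Quotient.mk_eq_zero _).mpr hr0, map_zero]
    exact h3
  have hm : (maximalIdeal A).map (algebraMap A B) ≤ Ideal.jacobson ⊥ := by
    rw [IsLocalRing.jacobson_eq_maximalIdeal ⊥ bot_ne_top]
    exact ((IsLocalRing.local_hom_TFAE (algebraMap A B)).out 0 2 rfl rfl).mp inferInstance
  have hflat := (FlatCrit65.injective_and_flat_quotient (S := B) (maximalIdeal A) hm (i.restrictScalars A)
    ((LinearMap.lTensor_inj_iff_rTensor_inj k _).mpr hik)).2
  exact Module.Flat.of_linearEquiv ((LinearMap.exact_iff.mp (show Function.Exact (i.restrictScalars A) (v.restrictScalars A) from hiv)) ▸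
    ((v.restrictScalars A).quotKerEquivOfSurjective hv).symm :
    G ≃ₗ[A] E1 ⧸ LinearMap.range (i.restrictScalars A))

end Groth.Agent.Depth99
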