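import Groth.Agent.Depth99.FourTerm
import Groth.Agent.Depth99.FibreBC
import Groth.Agent.EGA4H10.SkLocus
import Groth.Agent.LC17.Transfer

universe u

open TensorProduct IsLocalRing

namespace Groth.Agent.Depth99

variable {A B : Type u} [CommRing A] [CommRing B] [Algebra A B] [IsNoetherianRing A] [IsNoetherianRing B]
variable (q : Ideal B) [q.IsPrime]

omit [IsNoetherianRing A] in
/-- depth along `a` of the fibre, over the fibre local ring or over the local ring -/
theorem idealDepth_fibLocMod_eq (a : Ideal B) (M : Type u) [AddCommGroup M] [Module B M] [Module.Finite B M] :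
    LocCoh.idealDepth (a.map (algebraMap B (Localization.AtPrime q))) (EGA4.FibLocMod A B q M) =
      LocCoh.idealDepth (a.map (algebraMap B (EGA4.FibLocRing A B q))) (EGA4.FibLocMod A B q M) := by
  let Bq := Localization.AtPrime q
  have : IsNoetherianRing Bq := IsLocalization.isNoetherianRing q.primeCompl _ inferInstance
  have : Module.Finite Bq (LocalizedModule q.primeCompl M) :=
    Module.Finite.of_isLocalizedModule q.primeCompl (LocalizedModule.mkLinearMap q.primeCompl M)
  have : Module.Finite Bq (EGA4.FibLocMod A B q M) := inferInstance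
  have : Module.Finite (EGA4.FibLocRing A B q) (EGA4.FibLocMod A B q M) :=
    Module.Finite.of_restrictScalars_finite Bq _ _
  rw [LC17.idealDepth_map_algebra (B := EGA4.FibLocRing A B q) (a.map (algebraMap B Bq)), Ideal.map_map]
  rfl

omit [IsNoetherianRing A] in
/-- depth of the fibre along `J` from the fibre stalks at the generizations in the same fibre -/
theorem le_idealDepth_fibLocMod' (J : Ideal B) (M : Type u) [AddCommGroup M] [Module B M] [Module.Finite B M]
    (k : ℕ∞)
    (h : ∀ q' : PrimeSpectrum B, J ≤ q'.asIdeal → q'.asIdeal ≤ q →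
      q'.asIdeal.comap (algebraMap A B) = q.comap (algebraMap A B) →
      k ≤ LocCoh.idealDepth (q'.asIdeal.map (algebraMap B (EGA4.FibLocRing A B q'.asIdeal)))
        (EGA4.FibLocMod A B q'.asIdeal M)) :
    k ≤ LocCoh.idealDepth (J.map (algebraMap B (EGA4.FibLocRing A B q))) (EGA4.FibLocMod A B q M) := by
  let Bq := Localization.AtPrime q
  let p := q.comap (algebraMap A B)
  let K := p.map (algebraMap A B)
  have : IsNoetherianRing Bq := IsLocalization.isNoetherianRing q.primeCompl _ inferInstance
  have : Module.Finite Bq (LocalizedModule q.primeCompl M) :=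
    Module.Finite.of_isLocalizedModule q.primeCompl (LocalizedModule.mkLinearMap q.primeCompl M)
  let M' := M ⧸ (K • (⊤ : Submodule B M))
  have : Module.Finite Bq (LocalizedModule q.primeCompl M') :=
    Module.Finite.of_isLocalizedModule q.primeCompl (LocalizedModule.mkLinearMap q.primeCompl M')
  have hKq : ∀ (q' : Ideal B) [q'.IsPrime], K.map (algebraMap B (Localization.AtPrime q')) =
      p.map (algebraMap A (Localization.AtPrime q')) := fun q' _ => by
    rw [Ideal.map_map, ← IsScalarTower.algebraMap_eq]
  let e : ∀ (q' : Ideal B) [q'.IsPrime], LocalizedModule q'.primeCompl M' ≃ₗ[Localization.AtPrime q']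
      (LocalizedModule q'.primeCompl M ⧸ p.map (algebraMap A (Localization.AtPrime q')) •
        (⊤ : Submodule (Localization.AtPrime q') (LocalizedModule q'.primeCompl M))) := fun q' _ =>
    (localizedQuotientEquiv _ _).symm ≪≫ₗ Submodule.quotEquivOfEq _ _ (by
      rw [Submodule.localized, Submodule.localized'_smul, Ideal.localized'_eq_map, Submodule.localized'_top, hKq])
  rw [← idealDepth_fibLocMod_eq, ← LC17.idealDepth_congr _ (e q), LC17.idealDepth_eq_iInf]
  refine le_iInf₂ fun Q hQ => ?_
  rw [(EGA4H10.locLoc_invariants M' q.primeCompl Q.asIdeal).1]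
  have hJ : J ≤ Q.asIdeal.comap (algebraMap B Bq) := Ideal.map_le_iff_le_comap.mp hQ
  have hle : Q.asIdeal.comap (algebraMap B Bq) ≤ q := fun x hx => by
    by_contra hxq
    exact Q.2.ne_top (Q.asIdeal.eq_top_of_isUnit_mem hx (IsLocalization.map_units _ (⟨x, hxq⟩ : q.primeCompl)))
  suffices H : ∀ (q' : Ideal B) [q'.IsPrime], J ≤ q' → q' ≤ q →
      k ≤ LocCoh.depth (Localization.AtPrime q') (LocalizedModule q'.primeCompl M') from H _ hJ hle
  intro q' _ hJ hle
  rcases subsingleton_or_nontrivial (LocalizedModule q'.primeCompl M') with hs | hn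
  · rw [EGA4Alg4.depth_of_subsingleton (M := LocalizedModule q'.primeCompl M')]; exact le_top
  have hK : K ≤ q' := by
    have h1 : (⟨q', inferInstance⟩ : PrimeSpectrum B) ∈ Module.support B M' := hn
    exact SetLike.coe_subset_coe.mp ((Module.support_quotient _).le h1).2
  have hp : q'.comap (algebraMap A B) = p :=
    le_antisymm (Ideal.comap_mono hle) (Ideal.map_le_iff_le_comap.mp hK)
  have : IsNoetherianRing (Localization.AtPrime q') := IsLocalization.isNoetherianRing q'.primeCompl _ inferInstance
  rw [EGA4Alg4.depth_eq_of_equiv (e q')]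
  have h2 := h ⟨q', inferInstance⟩ hJ hle hp
  rw [← idealDepth_fibLocMod_eq, Localization.AtPrime.map_eq_maximalIdeal] at h2
  simp only [EGA4.FibLocMod] at h2
  rw [hp] at h2
  exact h2

omit [IsNoetherianRing A] in
theorem le_idealDepth_fibLocMod (J : Ideal B) (M : Type u) [AddCommGroup M] [Module B M] [Module.Finite B M]
    (k : ℕ∞)
    (h : ∀ q' : PrimeSpectrum B, J ≤ q'.asIdeal →
      k ≤ LocCoh.idealDepth (q'.asIdeal.map (algebraMap B (EGA4.FibLocRing A B q'.asIdeal)))
        (EGA4.FibLocMod A B q'.asIdeal M)) :
    k ≤ LocCoh.idealDepth (J.map (algebraMap B (EGA4.FibLocRing A B q))) (EGA4.FibLocMod A B q M) :=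
  le_idealDepth_fibLocMod' q J M k fun q' hJ _ _ => h q' hJ

variable {F E0 E1 G : Type u} [AddCommGroup F] [Module B F] [Module A F] [IsScalarTower A B F] [Module.Finite B F]
    [AddCommGroup E0] [Module B E0] [Module A E0] [IsScalarTower A B E0] [Module.Finite B E0] [Module.Flat A E0]
    [AddCommGroup E1] [Module B E1] [Module A E1] [IsScalarTower A B E1] [Module.Finite B E1] [Module.Flat A E1]
    [AddCommGroup G] [Module B G] [Module A G] [IsScalarTower A B G] [Module.Finite B G]

omit [IsNoetherianRing A] [Module.Finite B G] in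
theorem flatAt_locLoc [Module.Finite B G] (Q : Ideal (Localization.AtPrime q)) [Q.IsPrime]
    (h : FlatCA.FlatAt A (Q.comap (algebraMap B (Localization.AtPrime q))) G) :
    Module.Flat A (LocalizedModule Q.primeCompl (LocalizedModule q.primeCompl G)) := by
  let p := Q.comap (algebraMap B (Localization.AtPrime q))
  let g1 := LocalizedModule.mkLinearMap q.primeCompl G
  let g2 := LocalizedModule.mkLinearMap Q.primeCompl (LocalizedModule q.primeCompl G)
  let R2 := Localization.AtPrime Q
  have : IsLocalization p.primeCompl R2 :=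
    IsLocalization.isLocalization_isLocalization_atPrime_isLocalization q.primeCompl R2 Q
  have hb1 : IsBaseChange (Localization q.primeCompl) g1 :=
    (isLocalizedModule_iff_isBaseChange q.primeCompl (Localization q.primeCompl) g1).mp inferInstance
  have hb2 : IsBaseChange R2 g2 := (isLocalizedModule_iff_isBaseChange Q.primeCompl R2 g2).mp inferInstance
  let g := (g2.restrictScalars B).comp g1
  have : IsLocalizedModule p.primeCompl g :=
    (isLocalizedModule_iff_isBaseChange p.primeCompl R2 g).mpr (hb1.comp hb2)
  haveI : Module.Flat A (LocalizedModule p.primeCompl G) := h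
  exact Module.Flat.of_linearEquiv ((IsLocalizedModule.iso p.primeCompl g).restrictScalars A).symm

theorem four_term_loc (J : Ideal B) (f : F →ₗ[B] E0) (u : E0 →ₗ[B] E1) (v : E1 →ₗ[B] G)
    (hf : Function.Injective f) (hfu : Function.Exact f u) (huv : Function.Exact u v) (hv : Function.Surjective v)
    (hGU : ∀ q' : PrimeSpectrum B, ¬ J ≤ q'.asIdeal → FlatCA.FlatAt A q'.asIdeal G)
    (h0 : 2 ≤ LocCoh.idealDepth (J.map (algebraMap B (EGA4.FibLocRing A B q))) (EGA4.FibLocMod A B q E0))
    (h1 : 1 ≤ LocCoh.idealDepth (J.map (algebraMap B (EGA4.FibLocRing A B q))) (EGA4.FibLocMod A B q E1)) :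
    (2 ≤ LocCoh.idealDepth (J.map (algebraMap B (EGA4.FibLocRing A B q))) (EGA4.FibLocMod A B q F) ↔
      FlatCA.FlatAt A q G) ∧ (FlatCA.FlatAt A q G → FlatCA.FlatAt A q F) := by
  let p := q.comap (algebraMap A B)
  let Ap := Localization.AtPrime p
  let Bq := Localization.AtPrime q
  have : q.LiesOver p := ⟨rfl⟩
  let := Localization.AtPrime.algebraOfLiesOver p q
  have : IsLocalHom (algebraMap Ap Bq) := by
    rw [RingHom.algebraMap_toAlgebra]
    exact Localization.isLocalHom_localRingHom p q (algebraMap A B) Ideal.LiesOver.over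
  have : IsNoetherianRing Ap := IsLocalization.isNoetherianRing p.primeCompl _ inferInstance
  have : IsNoetherianRing Bq := IsLocalization.isNoetherianRing q.primeCompl _ inferInstance
  let : Module Ap (LocalizedModule q.primeCompl F) := Module.compHom _ (algebraMap Ap Bq)
  let : Module Ap (LocalizedModule q.primeCompl E0) := Module.compHom _ (algebraMap Ap Bq)
  let : Module Ap (LocalizedModule q.primeCompl E1) := Module.compHom _ (algebraMap Ap Bq)
  let : Module Ap (LocalizedModule q.primeCompl G) := Module.compHom _ (algebraMap Ap Bq)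
  have : IsScalarTower Ap Bq (LocalizedModule q.primeCompl F) := .of_compHom _ _ _
  have : IsScalarTower Ap Bq (LocalizedModule q.primeCompl E0) := .of_compHom _ _ _
  have : IsScalarTower Ap Bq (LocalizedModule q.primeCompl E1) := .of_compHom _ _ _
  have : IsScalarTower Ap Bq (LocalizedModule q.primeCompl G) := .of_compHom _ _ _
  have tow : ∀ (M : Type u) [AddCommGroup M] [Module A M] [Module Bq M] [IsScalarTower A Bq M]
      [Module Ap M] [IsScalarTower Ap Bq M], IsScalarTower A Ap M := fun M _ _ _ _ _ _ =>
    IsScalarTower.of_algebraMap_smul fun a x => by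
      rw [← algebraMap_smul Bq (algebraMap A Ap a) x, ← IsScalarTower.algebraMap_apply A Ap Bq, algebraMap_smul]
  have := tow (LocalizedModule q.primeCompl F)
  have := tow (LocalizedModule q.primeCompl E0)
  have := tow (LocalizedModule q.primeCompl E1)
  have := tow (LocalizedModule q.primeCompl G)
  have hfl : ∀ (M : Type u) [AddCommGroup M] [Module A M] [Module Ap M] [IsScalarTower A Ap M],
      Module.Flat Ap M ↔ Module.Flat A M := fun M _ _ _ _ => Module.flat_iff_of_isLocalization Ap p.primeCompl M
  have fin : ∀ (M : Type u) [AddCommGroup M] [Module B M] [Module.Finite B M],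
      Module.Finite Bq (LocalizedModule q.primeCompl M) := fun M _ _ _ =>
    Module.Finite.of_isLocalizedModule q.primeCompl (LocalizedModule.mkLinearMap q.primeCompl M)
  have := fin F; have := fin E0; have := fin E1; have := fin G
  have : Module.Flat Ap (LocalizedModule q.primeCompl E0) :=
    (hfl _).mpr (EGA4H10.flat_localizedModule E0 q.primeCompl)
  have : Module.Flat Ap (LocalizedModule q.primeCompl E1) :=
    (hfl _).mpr (EGA4H10.flat_localizedModule E1 q.primeCompl)
  have hK : (maximalIdeal Ap).map (algebraMap Ap Bq) = p.map (algebraMap A Bq) := by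
    rw [← Localization.AtPrime.map_eq_maximalIdeal, Ideal.map_map, ← IsScalarTower.algebraMap_eq]
  have hd : ∀ (M : Type u) [AddCommGroup M] [Module B M] [Module.Finite B M],
      LocCoh.idealDepth (J.map (algebraMap B Bq)) (EGA4.FibMod Ap Bq (LocalizedModule q.primeCompl M)) =
        LocCoh.idealDepth (J.map (algebraMap B (EGA4.FibLocRing A B q))) (EGA4.FibLocMod A B q M) := by
    intro M _ _ _
    have := fin M
    rw [← idealDepth_fibLocMod_eq]
    exact LC17.idealDepth_congr _ (Submodule.quotEquivOfEq _ _ (by rw [EGA4.mB, hK]))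
  have hG : ∀ Q : PrimeSpectrum Bq, ¬ J.map (algebraMap B Bq) ≤ Q.asIdeal →
      FlatCA.FlatAt Ap Q.asIdeal (LocalizedModule q.primeCompl G) := fun Q hQ => by
    have : IsScalarTower A Ap (LocalizedModule Q.asIdeal.primeCompl (LocalizedModule q.primeCompl G)) :=
      IsScalarTower.of_algebraMap_smul fun a x => by
        induction x using LocalizedModule.induction_on with
        | _ m s => rw [LocalizedModule.smul'_mk, LocalizedModule.smul'_mk, algebraMap_smul]
    exact (hfl _).mpr (flatAt_locLoc q Q.asIdeal (hGU ⟨Q.asIdeal.comap (algebraMap B Bq), inferInstance⟩ fun h => hQ (Ideal.map_le_iff_le_comap.mpr h)))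
  have key := four_term (A := Ap) (B := Bq) (J.map (algebraMap B Bq))
    (LocalizedModule.map q.primeCompl f) (LocalizedModule.map q.primeCompl u) (LocalizedModule.map q.primeCompl v)
    (LocalizedModule.map_injective _ _ hf) (LocalizedModule.map_exact _ _ _ hfu)
    (LocalizedModule.map_exact _ _ _ huv) (LocalizedModule.map_surjective _ _ hv) hG
    (by rw [hd]; exact h0) (by rw [hd]; exact h1)
  rw [hd] at key
  exact ⟨key.1.trans (hfl _), fun h => (hfl _).mp (key.2.2 ((hfl _).mpr h))⟩

end Groth.Agent.Depth99
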