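import Groth.Agent.Depth99.FibS2
import Groth.Agent.Depth99.DDual
import Groth.Agent.FlatCrit65.FlatLocus.Module
import Mathlib.RingTheory.HopkinsLevitzki

universe u

open TensorProduct IsLocalRing

namespace Groth.Agent.Depth99

/-- splitting of `F → E0 → E1 → G → 0` where `G` is free, up to a denominator -/
theorem exists_homotopy {B : Type u} [CommRing B] [IsNoetherianRing B] {n m : ℕ}
    {F G : Type u} [AddCommGroup F] [Module B F] [AddCommGroup G] [Module B G] [Module.Finite B G]
    (g : F →ₗ[B] (Fin n → B)) (h : (Fin n → B) →ₗ[B] (Fin m → B)) (π : (Fin m → B) →ₗ[B] G)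
    (hg : Function.Injective g) (hgh : Function.Exact g h) (hhπ : Function.Exact h π) (hπ : Function.Surjective π)
    (q : Ideal B) [q.IsPrime] [Module.Free (Localization.AtPrime q) (LocalizedModule q.primeCompl G)] :
    ∃ (b : (Fin m → B) →ₗ[B] (Fin n → B)) (c : (Fin n → B) →ₗ[B] F) (s : B), s ∉ q ∧
      c ∘ₗ g = s • LinearMap.id ∧ g ∘ₗ c + b ∘ₗ h = s • LinearMap.id := by
  obtain ⟨a, s, ha⟩ := exists_section_smul π hπ q
  have hb : ∀ i, ∃ y, h y = (s : B) • Pi.basisFun B (Fin m) i - a (π (Pi.basisFun B (Fin m) i)) := fun i => by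
    refine (hhπ _).mp ?_
    have := LinearMap.congr_fun ha (π (Pi.basisFun B (Fin m) i))
    simp only [LinearMap.comp_apply, LinearMap.smul_apply, LinearMap.id_apply] at this
    rw [map_sub, map_smul, this, sub_self]
  choose y hy using hb
  let b := (Pi.basisFun B (Fin m)).constr B y
  have hhb : h ∘ₗ b = (s : B) • LinearMap.id - a ∘ₗ π := (Pi.basisFun B (Fin m)).ext fun i => by
    simp [b, hy i]
  have hc : ∀ i, ∃ x, g x = (s : B) • Pi.basisFun B (Fin n) i - b (h (Pi.basisFun B (Fin n) i)) := fun i => by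
    refine (hgh _).mp ?_
    have := LinearMap.congr_fun hhb (h (Pi.basisFun B (Fin n) i))
    simp only [LinearMap.comp_apply, LinearMap.smul_apply, LinearMap.id_apply, LinearMap.sub_apply,
      hhπ.apply_apply_eq_zero, map_zero, sub_zero] at this
    rw [map_sub, map_smul, this, sub_self]
  choose x hx using hc
  let c := (Pi.basisFun B (Fin n)).constr B x
  have hgc : g ∘ₗ c + b ∘ₗ h = (s : B) • LinearMap.id := (Pi.basisFun B (Fin n)).ext fun i => by
    simp [c, hx i]
  refine ⟨b, c, s, s.2, LinearMap.ext fun z => hg ?_, hgc⟩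
  have := LinearMap.congr_fun hgc (g z)
  simp only [LinearMap.add_apply, LinearMap.comp_apply, LinearMap.smul_apply, LinearMap.id_apply,
    hgh.apply_apply_eq_zero, map_zero, add_zero] at this
  simp only [LinearMap.comp_apply, LinearMap.smul_apply, LinearMap.id_apply, map_smul]
  exact this

theorem QInv.localize {B : Type u} [CommRing B] {M N : Type u} [AddCommGroup M] [Module B M] [AddCommGroup N] [Module B N]
    {f : M →ₗ[B] N} (S : Submonoid B) (P : Ideal (Localization S))
    (h : QInv f (P.comap (algebraMap B (Localization S)))) : QInv (LocalizedModule.map S f) P := by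
  obtain ⟨g, s, hs, h1, h2⟩ := h
  refine ⟨LocalizedModule.map S g, algebraMap B (Localization S) s, hs, ?_, ?_⟩
  · refine LinearMap.ext fun z => ?_
    induction z using LocalizedModule.induction_on with
    | _ x t =>
      have := LinearMap.congr_fun h1 x
      simp only [LinearMap.comp_apply, LinearMap.smul_apply, LinearMap.id_apply] at this
      simp only [LinearMap.comp_apply, LinearMap.smul_apply, LinearMap.id_apply, LocalizedModule.map_mk]
      rw [this, algebraMap_smul, LocalizedModule.smul'_mk]
  · refine LinearMap.ext fun z => ?_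
    induction z using LocalizedModule.induction_on with
    | _ x t =>
      have := LinearMap.congr_fun h2 x
      simp only [LinearMap.comp_apply, LinearMap.smul_apply, LinearMap.id_apply] at this
      simp only [LinearMap.comp_apply, LinearMap.smul_apply, LinearMap.id_apply, LocalizedModule.map_mk]
      rw [this, algebraMap_smul, LocalizedModule.smul'_mk]

/-- a left exact sequence of projectives -/
theorem two_le_idealDepth_exact {D : Type u} [CommRing D] [IsNoetherianRing D] (a : Ideal D) (hD : 2 ≤ LocCoh.idealDepth a D)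
    {K E0 E1 : Type u} [AddCommGroup K] [Module D K] [Module.Finite D K]
    [AddCommGroup E0] [Module D E0] [Module.Finite D E0] [Module.Projective D E0]
    [AddCommGroup E1] [Module D E1] [Module.Finite D E1] [Module.Projective D E1]
    (ι : K →ₗ[D] E0) (u : E0 →ₗ[D] E1) (hι : Function.Injective ι) (hex : Function.Exact ι u) :
    2 ≤ LocCoh.idealDepth a K := by
  rw [LC17.idealDepth_congr a ((LinearEquiv.ofInjective ι hι).trans (LinearEquiv.ofEq _ _ (LinearMap.exact_iff.mp hex).symm))]
  exact (idealDepth_ker a u).2 ((idealDepth_of_isReflexive a E0).2.1 hD)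
    ((idealDepth_of_isReflexive a E1).1 (le_trans (by norm_num) hD))

theorem loc_bijective_of_qInv {C' : Type u} [CommRing C'] [IsNoetherianRing C'] (S : Submonoid C') (J' : Ideal C')
    {H K : Type u} [AddCommGroup H] [Module C' H] [Module.Finite C' H] [AddCommGroup K] [Module C' K] [Module.Finite C' K]
    (θ : H →ₗ[C'] K) (hoff : ∀ Q : PrimeSpectrum C', ¬ J' ≤ Q.asIdeal → QInv θ Q.asIdeal)
    (hH : 2 ≤ LocCoh.idealDepth (J'.map (algebraMap C' (Localization S))) (LocalizedModule S H))
    (hK : 1 ≤ LocCoh.idealDepth (J'.map (algebraMap C' (Localization S))) (LocalizedModule S K)) :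
    Function.Bijective (LocalizedModule.map S θ) := by
  have : IsNoetherianRing (Localization S) := IsLocalization.isNoetherianRing S _ inferInstance
  have : Module.Finite (Localization S) (LocalizedModule S H) :=
    Module.Finite.of_isLocalizedModule S (LocalizedModule.mkLinearMap S H)
  have : Module.Finite (Localization S) (LocalizedModule S K) :=
    Module.Finite.of_isLocalizedModule S (LocalizedModule.mkLinearMap S K)
  exact bijective_of_depth _ (LocalizedModule.map S θ) hH hK fun P hP =>
    (QInv.localize S P.asIdeal (hoff ⟨P.asIdeal.comap (algebraMap C' (Localization S)), inferInstance⟩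
      fun hle => hP (Ideal.map_le_iff_le_comap.mpr hle))).loc_bijective

theorem loc_part {C' : Type u} [CommRing C'] [IsNoetherianRing C'] (J' : Ideal C') (q' : Ideal C') [q'.IsPrime]
    (hdep : ∀ Q : PrimeSpectrum C', J' ≤ Q.asIdeal → Q.asIdeal ≤ q' →
      2 ≤ LocCoh.depth (Localization.AtPrime Q.asIdeal) (LocalizedModule Q.asIdeal.primeCompl C'))
    {K E0 E1 Y : Type u} [AddCommGroup K] [Module C' K] [Module.Finite C' K]
    [AddCommGroup E0] [Module C' E0] [Module.Finite C' E0] [Module.Projective C' E0]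
    [AddCommGroup E1] [Module C' E1] [Module.Finite C' E1] [Module.Projective C' E1]
    [AddCommGroup Y] [Module C' Y] [Module.Finite C' Y]
    (ι₀ : K →ₗ[C'] E0) (h' : E0 →ₗ[C'] E1) (hι₀ : Function.Injective ι₀) (hK : Function.Exact ι₀ h')
    (θ : Module.Dual C' Y →ₗ[C'] K) (hoff : ∀ Q : PrimeSpectrum C', ¬ J' ≤ Q.asIdeal → QInv θ Q.asIdeal) :
    Function.Bijective (LocalizedModule.map q'.primeCompl θ) ∧
      ∀ Q : PrimeSpectrum C', J' ≤ Q.asIdeal → Q.asIdeal ≤ q' →
        2 ≤ LocCoh.depth (Localization.AtPrime Q.asIdeal) (LocalizedModule Q.asIdeal.primeCompl K) := by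
  let H := Module.Dual C' Y
  haveI : Module.Finite C' H := TF3.finite_dual
  let S := q'.primeCompl
  let D := Localization.AtPrime q'
  have : IsNoetherianRing D := IsLocalization.isNoetherianRing S _ inferInstance
  have fin : ∀ (M : Type u) [AddCommGroup M] [Module C' M] [Module.Finite C' M],
      Module.Finite D (LocalizedModule S M) := fun M _ _ _ =>
    Module.Finite.of_isLocalizedModule S (LocalizedModule.mkLinearMap S M)
  have := fin C'; have := fin K; have := fin H; have := fin (Module.Dual C' Y); have := fin E0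
  have := fin E1; haveI : Module.Finite C' (Module.Dual C' Y) := TF3.finite_dual
  let a := J'.map (algebraMap C' D)
  have hD : ((2 : ℕ) : ℕ∞) ≤ LocCoh.idealDepth a (LocalizedModule S C') := by
    rw [LC17.idealDepth_eq_iInf]
    refine le_iInf₂ fun P hP => ?_
    rw [(EGA4H10.locLoc_invariants C' S P.asIdeal).1]
    exact_mod_cast hdep ⟨P.asIdeal.comap (algebraMap C' D), inferInstance⟩ (Ideal.map_le_iff_le_comap.mp hP) fun x hx => by
      by_contra hxq
      exact P.2.ne_top (P.asIdeal.eq_top_of_isUnit_mem hx (IsLocalization.map_units _ (⟨x, hxq⟩ : S)))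
  have hDD : 2 ≤ LocCoh.idealDepth a D := by
    rw [← LC17.idealDepth_congr a (selfLocEquiv q')]
    exact_mod_cast hD
  have := free_loc_of_projective E0 q'
  have := free_loc_of_projective E1 q'
  have hHd : 2 ≤ LocCoh.idealDepth a (LocalizedModule S H) := by
    rw [LC17.idealDepth_congr a (TF3.homLocEquiv (M := Y) (N := C') q')]
    exact_mod_cast idealDepth_hom a _ (LocalizedModule S C') (k := 2) le_rfl hD
  let ι := LocalizedModule.map S ι₀
  have hinj : Function.Injective ι := LocalizedModule.map_injective _ _ hι₀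
  have hex : Function.Exact ι (LocalizedModule.map S h') := LocalizedModule.map_exact _ _ _ hK
  have : Module.Projective D (LocalizedModule S E0) := Module.Projective.of_free
  have : Module.Projective D (LocalizedModule S E1) := Module.Projective.of_free
  have hKd : 2 ≤ LocCoh.idealDepth a (LocalizedModule S K) :=
    two_le_idealDepth_exact (D := D) a hDD (K := LocalizedModule S K) (E0 := LocalizedModule S E0)
      (E1 := LocalizedModule S E1) (LocalizedModule.map S ι₀) (LocalizedModule.map S h') hinj hex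
  have hbij : Function.Bijective (LocalizedModule.map S θ) :=
    loc_bijective_of_qInv S J' θ hoff hHd (le_trans (by norm_num) hKd)
  refine ⟨hbij, fun Q hQ hle => ?_⟩
  have hP : (Q.asIdeal.map (algebraMap C' D)).IsPrime := Ideal.isPrime_map_of_isLocalizationAtPrime q' hle
  have hc : (Q.asIdeal.map (algebraMap C' D)).comap (algebraMap C' D) = Q.asIdeal :=
    Ideal.under_map_of_isLocalizationAtPrime q' hle
  have h1 := le_trans hKd (LC17.idealDepth_le_depth_loc (M := LocalizedModule S K) (Q.asIdeal.map (algebraMap C' D))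
    (Ideal.map_mono hQ))
  rw [(EGA4H10.locLoc_invariants K S (Q.asIdeal.map (algebraMap C' D))).1] at h1
  have hQ' : (⟨(Q.asIdeal.map (algebraMap C' D)).comap (algebraMap C' D), inferInstance⟩ : PrimeSpectrum C') = Q :=
    PrimeSpectrum.ext hc
  exact hQ' ▸ h1


set_option maxHeartbeats 1600000 in
/-- over an artinian base: the double dual of the base change is the kernel, near `q'` -/
theorem ker_flatAt {C : Type u} [CommRing C] [IsNoetherianRing C]
    {A' C' : Type u} [CommRing A'] [CommRing C'] [IsNoetherianRing C'] [Algebra C C'] [Algebra A' C']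
    (J : Ideal C) {F G : Type u} [AddCommGroup F] [Module C F] [Module.Finite C F] [AddCommGroup G] [Module C G]
    [Module.Finite C G] {n m : ℕ} (g : F →ₗ[C] (Fin n → C)) (h : (Fin n → C) →ₗ[C] (Fin m → C)) (π : (Fin m → C) →ₗ[C] G)
    (hg : Function.Injective g) (hgh : Function.Exact g h) (hhπ : Function.Exact h π) (hπ : Function.Surjective π)
    (hGU : ∀ q : PrimeSpectrum C, ¬ J ≤ q.asIdeal → Module.Free (Localization.AtPrime q.asIdeal) (LocalizedModule q.asIdeal.primeCompl G))
    (hFU : ∀ q : PrimeSpectrum C, ¬ J ≤ q.asIdeal → Module.Free (Localization.AtPrime q.asIdeal) (LocalizedModule q.asIdeal.primeCompl F))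
    {K : Type u} [AddCommGroup K] [Module C' K] [Module A' K] [IsScalarTower A' C' K] [Module.Finite C' K]
    (ι₀ : K →ₗ[C'] C' ⊗[C] (Fin n → C)) (hι₀ : Function.Injective ι₀) (hK : Function.Exact ι₀ (h.baseChange C'))
    (q' : Ideal C') [q'.IsPrime]
    (hdep : ∀ Q : PrimeSpectrum C', J.map (algebraMap C C') ≤ Q.asIdeal → Q.asIdeal ≤ q' →
      2 ≤ LocCoh.depth (Localization.AtPrime Q.asIdeal) (LocalizedModule Q.asIdeal.primeCompl C'))
    (hH : FlatCA.FlatAt A' q' (Module.Dual C' (Module.Dual C' (C' ⊗[C] F)))) :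
    FlatCA.FlatAt A' q' K ∧
      ∀ Q : PrimeSpectrum C', J.map (algebraMap C C') ≤ Q.asIdeal → Q.asIdeal ≤ q' →
        2 ≤ LocCoh.depth (Localization.AtPrime Q.asIdeal) (LocalizedModule Q.asIdeal.primeCompl K) := by
  set h' := h.baseChange C' with hh'
  set g' := g.baseChange C' with hg'
  let J' := J.map (algebraMap C C')
  let X := C' ⊗[C] F
  let E := C' ⊗[C] (Fin n → C)
  let H := Module.Dual C' (Module.Dual C' X)
  have hh'g' : h' ∘ₗ g' = 0 := by
    rw [hh', hg', ← LinearMap.baseChange_comp, hgh.linearMap_comp_eq_zero, LinearMap.baseChange_zero]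
  have : Module.Finite C' (Module.Dual C' X) := TF3.finite_dual
  have : Module.Finite C' H := TF3.finite_dual
  let θ₀ : H →ₗ[C'] E := (Module.evalEquiv C' E).symm.toLinearMap ∘ₗ g'.dualMap.dualMap
  have hθ₀ : ∀ φ, h' (θ₀ φ) = 0 := fun φ => by
    apply (Module.evalEquiv C' (C' ⊗[C] (Fin m → C))).injective
    rw [map_zero]
    apply LinearMap.ext
    intro ξ
    have h1 : Module.evalEquiv C' E (θ₀ φ) = g'.dualMap.dualMap φ := (Module.evalEquiv C' E).apply_symm_apply _
    have h2 := LinearMap.congr_fun h1 (h'.dualMap ξ)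
    simp only [Module.evalEquiv_apply, Module.Dual.eval_apply, LinearMap.dualMap_apply] at h2 ⊢
    rw [h2, show g'.dualMap (h'.dualMap ξ) = 0 from by
      apply LinearMap.ext; intro x
      simp only [LinearMap.dualMap_apply, LinearMap.zero_apply]
      rw [show h' (g' x) = 0 from LinearMap.congr_fun hh'g' x, map_zero], map_zero, LinearMap.zero_apply]
  let eK : K ≃ₗ[C'] LinearMap.ker h' :=
    (LinearEquiv.ofInjective ι₀ hι₀).trans (LinearEquiv.ofEq _ _ (LinearMap.exact_iff.mp hK).symm)
  have heK : ∀ z : LinearMap.ker h', ι₀ (eK.symm z) = z.1 := fun z => congrArg Subtype.val (eK.apply_symm_apply z)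
  let θ : H →ₗ[C'] K := eK.symm.toLinearMap ∘ₗ θ₀.codRestrict _ hθ₀
  let ψ : X →ₗ[C'] K := eK.symm.toLinearMap ∘ₗ g'.codRestrict _ fun x => LinearMap.congr_fun hh'g' x
  have hθψ : ∀ x, θ (Module.Dual.eval C' X x) = ψ x := fun x => hι₀ <| by
    refine (heK _).trans (Eq.trans ?_ (heK _).symm)
    show θ₀ (Module.Dual.eval C' X x) = g' x
    apply (Module.evalEquiv C' E).injective
    rw [show Module.evalEquiv C' E (θ₀ (Module.Dual.eval C' X x)) = _ from (Module.evalEquiv C' E).apply_symm_apply _]
    rfl
  -- bijective off `J'`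
  have hoff : ∀ Q : PrimeSpectrum C', ¬ J' ≤ Q.asIdeal → QInv θ Q.asIdeal := by
    intro Q hQ
    let q : PrimeSpectrum C := ⟨Q.asIdeal.comap (algebraMap C C'), inferInstance⟩
    have hq : ¬ J ≤ q.asIdeal := fun hle => hQ (Ideal.map_le_iff_le_comap.mpr hle)
    have := hGU q hq
    obtain ⟨b, c, s, hs, hcg, hgc⟩ := exists_homotopy g h π hg hgh hhπ hπ q.asIdeal
    have hψ : QInv ψ Q.asIdeal := by
      refine ⟨c.baseChange C' ∘ₗ ι₀, algebraMap C C' s, hs, LinearMap.ext fun x => ?_,
        LinearMap.ext fun x => hι₀ ?_⟩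
      · have := LinearMap.congr_fun (congrArg (LinearMap.baseChange C') hcg) x
        simp only [LinearMap.baseChange_comp, LinearMap.baseChange_smul, LinearMap.baseChange_id, LinearMap.comp_apply,
          LinearMap.smul_apply, LinearMap.id_apply] at this
        simp only [LinearMap.comp_apply, LinearMap.smul_apply, LinearMap.id_apply, algebraMap_smul]
        rw [show ι₀ (ψ x) = g' x from heK _]
        exact this
      · have h3 := LinearMap.congr_fun (congrArg (LinearMap.baseChange C') hgc) (ι₀ x)
        simp only [LinearMap.baseChange_add, LinearMap.baseChange_comp, LinearMap.baseChange_smul,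
          LinearMap.baseChange_id, LinearMap.add_apply, LinearMap.comp_apply, LinearMap.smul_apply,
          LinearMap.id_apply] at h3
        rw [show h' (ι₀ x) = 0 from hK.apply_apply_eq_zero x, map_zero, add_zero] at h3
        simp only [LinearMap.comp_apply, LinearMap.smul_apply, LinearMap.id_apply, algebraMap_smul]
        rw [show ι₀ (ψ (c.baseChange C' (ι₀ x))) = g' (c.baseChange C' (ι₀ x)) from heK _, LinearMap.map_smul_of_tower]
        rw [← algebraMap_smul C' s] at h3
        exact h3
    have := hFU q hq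
    have : Module.Free (Localization.AtPrime Q.asIdeal) (LocalizedModule Q.asIdeal.primeCompl X) :=
      free_loc_baseChange F Q.asIdeal
    have : Module.Finite (Localization.AtPrime Q.asIdeal) (LocalizedModule Q.asIdeal.primeCompl X) :=
      Module.Finite.of_isLocalizedModule Q.asIdeal.primeCompl (LocalizedModule.mkLinearMap Q.asIdeal.primeCompl X)
    have he := (TF3.localized_eval_bijective_iff (M := X) Q.asIdeal).mpr inferInstance
    refine qInv_of_loc_bijective θ Q.asIdeal ?_
    have hcomp : LocalizedModule.map Q.asIdeal.primeCompl θ ∘ LocalizedModule.map Q.asIdeal.primeCompl (Module.Dual.eval C' X) =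
        LocalizedModule.map Q.asIdeal.primeCompl ψ := funext fun z => by
      induction z using LocalizedModule.induction_on with
      | _ x t => simp [LocalizedModule.map_mk, hθψ]
    refine (Function.Bijective.of_comp_iff _ he).mp ?_
    rw [hcomp]
    exact hψ.loc_bijective
  obtain ⟨hbij, hd⟩ := loc_part J' q' hdep ι₀ h' hι₀ hK θ hoff
  have : Module.Flat A' (LocalizedModule q'.primeCompl H) := hH
  exact ⟨Module.Flat.of_linearEquiv ((LinearEquiv.ofBijective _ hbij).restrictScalars A').symm, hd⟩

set_option maxHeartbeats 1600000 in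
theorem artinian_step {R C A' : Type u} [CommRing R] [CommRing C] [CommRing A'] [IsLocalRing R] [IsNoetherianRing C]
    [Algebra R C] [Module.Flat R C] [Algebra R A'] [IsLocalRing A'] [IsArtinianRing A']
    (hs : Function.Surjective (algebraMap R A'))
    (C' : Type u) [CommRing C'] [IsNoetherianRing C'] [Algebra C C'] [Algebra A' C'] [Algebra R C']
    [IsScalarTower R C C'] [IsScalarTower R A' C'] [hpo : Algebra.IsPushout R C A' C']
    (hsC : Function.Surjective (algebraMap C C'))
    (J : Ideal C) {F G : Type u} [AddCommGroup F] [Module C F] [Module.Finite C F] [AddCommGroup G] [Module C G]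
    [Module R G] [IsScalarTower R C G] [Module.Finite C G] {n₀ m : ℕ}
    (g : F →ₗ[C] (Fin n₀ → C)) (h : (Fin n₀ → C) →ₗ[C] (Fin m → C)) (π : (Fin m → C) →ₗ[C] G)
    (hg : Function.Injective g) (hgh : Function.Exact g h) (hhπ : Function.Exact h π) (hπ : Function.Surjective π)
    (hGU : ∀ q : PrimeSpectrum C, ¬ J ≤ q.asIdeal → Module.Free (Localization.AtPrime q.asIdeal) (LocalizedModule q.asIdeal.primeCompl G))
    (hFU : ∀ q : PrimeSpectrum C, ¬ J ≤ q.asIdeal → Module.Free (Localization.AtPrime q.asIdeal) (LocalizedModule q.asIdeal.primeCompl F))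
    (n : Ideal C)
    (hdepC : ∀ q : PrimeSpectrum C, J ≤ q.asIdeal → q.asIdeal ≤ n →
      q.asIdeal.comap (algebraMap R C) = maximalIdeal R →
      2 ≤ LocCoh.idealDepth (q.asIdeal.map (algebraMap C (EGA4.FibLocRing R C q.asIdeal))) (EGA4.FibLocRing R C q.asIdeal))
    (q' : Ideal C') [q'.IsPrime] (hq' : q'.comap (algebraMap C C') = n)
    (hH : FlatCA.FlatAt A' q' (Module.Dual C' (Module.Dual C' (C' ⊗[C] F))))
    (K : Submodule R A') (z : G ⊗[R] K) (hz : K.subtype.lTensor G z = 0) : ∃ c ∉ n, c • z = 0 := by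
    haveI hpo' : Algebra.IsPushout R A' C C' := Algebra.IsPushout.symm hpo
    haveI : Module.Flat A' C' := Module.Flat.of_linearEquiv (Algebra.IsPushout.equiv R A' C C').toLinearEquiv.symm
    let J' := J.map (algebraMap C C')
    have hle : ∀ Q : PrimeSpectrum C', Q.asIdeal ≤ q' → Q.asIdeal.comap (algebraMap C C') ≤ n :=
      fun Q hQ => hq' ▸ Ideal.comap_mono hQ
    have hA'm : ∀ Q : PrimeSpectrum C', (Q.asIdeal.comap (algebraMap C C')).comap (algebraMap R C) = maximalIdeal R :=
      fun Q => by
        rw [Ideal.comap_comap, ← IsScalarTower.algebraMap_eq, IsScalarTower.algebraMap_eq R A' C', ← Ideal.comap_comap,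
          IsLocalRing.eq_maximalIdeal (IsArtinianRing.isMaximal_of_isPrime (Q.asIdeal.comap (algebraMap A' C')))]
        exact ((maximalIdeal.isMaximal R).eq_of_le (Ideal.comap_ne_top _ (maximalIdeal.isMaximal A').ne_top)
          fun x hx => by
            rw [Ideal.mem_comap, ← IsLocalRing.map_maximalIdeal_of_surjective _ hs]
            exact Ideal.mem_map_of_mem _ hx).symm
    have hfib : ∀ Q : PrimeSpectrum C', J' ≤ Q.asIdeal → Q.asIdeal ≤ q' →
        2 ≤ LocCoh.idealDepth (Q.asIdeal.map (algebraMap C' (EGA4.FibLocRing A' C' Q.asIdeal))) (EGA4.FibLocRing A' C' Q.asIdeal) :=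
      fun Q hJ hQ => (hdepC ⟨Q.asIdeal.comap (algebraMap C C'), inferInstance⟩ (Ideal.map_le_iff_le_comap.mp hJ)
        (hle Q hQ) (hA'm Q)).trans (fibre_depth_baseChange Q.asIdeal)
    have hdep : ∀ Q : PrimeSpectrum C', J' ≤ Q.asIdeal → Q.asIdeal ≤ q' →
        2 ≤ LocCoh.depth (Localization.AtPrime Q.asIdeal) (LocalizedModule Q.asIdeal.primeCompl C') :=
      fun Q hJ hQ => (hfib Q hJ hQ).trans (fibLocRing_depth_le Q.asIdeal)
    have hexK : Function.Exact (LinearMap.ker (h.baseChange C')).subtype (h.baseChange C') :=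
      LinearMap.exact_iff.mpr (Submodule.range_subtype _).symm
    obtain ⟨hK, hKd⟩ := ker_flatAt (A' := A') (K := ↥(LinearMap.ker (h.baseChange C'))) J g h π hg hgh hhπ hπ hGU hFU
      (LinearMap.ker (h.baseChange C')).subtype Subtype.val_injective hexK q' hdep hH
    haveI : Module.Flat A' (C' ⊗[C] (Fin n₀ → C)) := Module.Flat.trans A' C' _
    haveI : Module.Flat A' (C' ⊗[C] (Fin m → C)) := Module.Flat.trans A' C' _
    have hG' : FlatCA.FlatAt A' q' (C' ⊗[C] G) := by
      refine (four_term_loc (F := ↥(LinearMap.ker (h.baseChange C'))) q' J' (LinearMap.ker (h.baseChange C')).subtype (h.baseChange C') (π.baseChange C')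
        Subtype.val_injective hexK (lTensor_exact C' hhπ hπ) (LinearMap.lTensor_surjective C' hπ)
        (fun Q hQ => ?_) ?_ ?_).1.mp ?_
      · have := hGU ⟨Q.asIdeal.comap (algebraMap C C'), inferInstance⟩ fun h' => hQ (Ideal.map_le_iff_le_comap.mpr h')
        have := free_loc_baseChange (B := C) (B' := C') G Q.asIdeal
        have : Module.Flat A' (Localization.AtPrime Q.asIdeal) := Module.Flat.trans A' C' _
        exact Module.Flat.trans A' (Localization.AtPrime Q.asIdeal) _
      · exact le_idealDepth_fibLocMod' q' J' _ 2 fun Q hJ hQ _ => (hfib Q hJ hQ).trans (fibre_depth_projective Q _)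
      · exact le_idealDepth_fibLocMod' q' J' _ 1 fun Q hJ hQ _ =>
          (le_trans (by norm_num) (hfib Q hJ hQ)).trans (fibre_depth_projective Q _)
      · refine le_idealDepth_fibLocMod' q' J' _ 2 fun Q hJ hQ _ => ?_
        rw [idealDepth_max_fibLocMod, ← depth_fib_artinian Q.asIdeal _ (FlatCrit65.flat_localized_of_le hQ hK)]
        exact hKd Q hJ hQ
    let K' : Ideal A' :=
      { carrier := K, add_mem' := K.add_mem, zero_mem' := K.zero_mem,
        smul_mem' := fun c x hx => by
          obtain ⟨r, rfl⟩ := hs c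
          simpa [Algebra.smul_def] using K.smul_mem r hx }
    let eK : K ≃ₗ[R] K' :=
      { toFun := fun x => ⟨x.1, x.2⟩, invFun := fun x => ⟨x.1, x.2⟩, map_add' := fun _ _ => rfl,
        map_smul' := fun _ _ => rfl }
    let E : ∀ (L : Type u) [AddCommGroup L] [Module R L] [Module A' L] [IsScalarTower R A' L],
        (C' ⊗[C] G) ⊗[A'] L ≃ₗ[A'] L ⊗[R] G := fun L _ _ _ _ =>
      (TensorProduct.congr (Algebra.IsPushout.cancelBaseChange R A' C C' G) (LinearEquiv.refl A' L)).trans
        ((TensorProduct.comm A' _ _).trans (AlgebraTensorModule.cancelBaseChange R A' A' L G))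
    let Ψ : ∀ (L : Type u) [AddCommGroup L] [Module R L] [Module A' L] [IsScalarTower R A' L],
        G ⊗[R] L →ₗ[R] (C' ⊗[C] G) ⊗[A'] L := fun L _ _ _ _ =>
      ((E L).symm.toLinearMap.restrictScalars R) ∘ₗ (TensorProduct.comm R G L).toLinearMap
    have hΨ : ∀ (L : Type u) [AddCommGroup L] [Module R L] [Module A' L] [IsScalarTower R A' L] (x : G) (l : L),
        Ψ L (x ⊗ₜ[R] l) = ((1 : C') ⊗ₜ[C] x) ⊗ₜ[A'] l := fun L _ _ _ _ x l => by
      show (E L).symm (l ⊗ₜ[R] x) = _
      rw [LinearEquiv.symm_apply_eq]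
      simp [E]
    let w := Ψ K' (eK.toLinearMap.lTensor G z)
    have hw : K'.subtype.lTensor (C' ⊗[C] G) w = 0 := by
      have hnat : ∀ t : G ⊗[R] K, K'.subtype.lTensor (C' ⊗[C] G) (Ψ K' (eK.toLinearMap.lTensor G t)) =
          Ψ A' (K.subtype.lTensor G t) := fun t => by
        induction t using TensorProduct.induction_on with
        | zero => simp
        | tmul x l =>
          rw [LinearMap.lTensor_tmul, LinearMap.lTensor_tmul, hΨ, hΨ, LinearMap.lTensor_tmul]
          rfl
        | add x y hx hy => simp only [map_add, hx, hy]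
      rw [hnat, hz, map_zero]
    obtain ⟨c', hc', hcw⟩ := (FlatCrit65.flat_localized_iff_kernels q').mp hG' K' w hw
    obtain ⟨c, rfl⟩ := hsC c'
    refine ⟨c, fun hc => hc' (hq'.symm ▸ hc : c ∈ q'.comap (algebraMap C C')), ?_⟩
    have hc2 : ∀ t : G ⊗[R] K, Ψ K' (eK.toLinearMap.lTensor G (c • t)) =
        algebraMap C C' c • Ψ K' (eK.toLinearMap.lTensor G t) := fun t => by
      induction t using TensorProduct.induction_on with
      | zero => simp
      | tmul x l =>
        rw [TensorProduct.smul_tmul', LinearMap.lTensor_tmul, LinearMap.lTensor_tmul, hΨ, hΨ,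
          TensorProduct.smul_tmul', TensorProduct.smul_tmul', smul_eq_mul, mul_one, TensorProduct.tmul_smul,
          ← algebraMap_smul C' c ((1 : C') ⊗ₜ[C] x), TensorProduct.smul_tmul', smul_eq_mul, mul_one]
      | add x y hx hy => simp only [smul_add, map_add, hx, hy]
    have h2 : Ψ K' (eK.toLinearMap.lTensor G (c • z)) = 0 := by rw [hc2]; exact hcw
    have h3 := (E K').symm.injective (h2.trans (map_zero (E K').symm).symm)
    rw [LinearEquiv.coe_coe, LinearEquiv.map_eq_zero_iff] at h3
    refine (LinearEquiv.lTensor G eK).injective ?_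
    rw [map_zero]
    exact h3

attribute [local instance] Algebra.TensorProduct.rightAlgebra in
set_option maxHeartbeats 1600000 in
theorem artinian_criterion (R C : Type u) [CommRing R] [CommRing C] [IsNoetherianRing R] [IsLocalRing R] [IsNoetherianRing C]
    [Algebra R C] [Module.Flat R C] (hft : Algebra.FiniteType R C)
    (n : PrimeSpectrum C) (hn : (IsLocalRing.maximalIdeal R).map (algebraMap R C) ≤ n.asIdeal)
    (hS2 : LocCoh.HasSk 2 (EGA4.FibLocRing R C n.asIdeal) (EGA4.FibLocRing R C n.asIdeal))
    (F : Type u) [AddCommGroup F] [Module C F] [Module R F] [IsScalarTower R C F] [Module.Finite C F]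
    [Module.IsReflexive C F] (J : Ideal C)
    (hFU : ∀ q : PrimeSpectrum C, ¬ J ≤ q.asIdeal → Module.Free (Localization.AtPrime q.asIdeal) (LocalizedModule q.asIdeal.primeCompl F))
    (hcodim : ∀ q : PrimeSpectrum C, J ≤ q.asIdeal → (2 : WithBot ℕ∞) ≤ ringKrullDim (EGA4.FibLocRing R C q.asIdeal))
    (hI : ∀ (A' : Type u) [CommRing A'] [IsArtinianRing A'] [IsLocalRing A'] [Algebra R A'],
      Function.Surjective (algebraMap R A') →
      ∀ (C' : Type u) [CommRing C'] [IsNoetherianRing C'] [Algebra C C'] [Algebra A' C'] [Algebra R C']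
        [IsScalarTower R C C'] [IsScalarTower R A' C'], Algebra.IsPushout R C A' C' →
        ∀ q' : PrimeSpectrum C', q'.asIdeal.comap (algebraMap C C') = n.asIdeal →
          FlatCA.FlatAt A' q'.asIdeal (Module.Dual C' (Module.Dual C' (C' ⊗[C] F))) ∧
          LocCoh.HasSk 2 (EGA4.FibLocRing A' C' q'.asIdeal)
            (EGA4.FibLocMod A' C' q'.asIdeal (Module.Dual C' (Module.Dual C' (C' ⊗[C] F))))) :
    FlatCA.FlatAt R n.asIdeal F ∧ LocCoh.HasSk 2 (EGA4.FibLocRing R C n.asIdeal) (EGA4.FibLocMod R C n.asIdeal F) := by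
  have hnm : n.asIdeal.comap (algebraMap R C) = maximalIdeal R :=
    ((maximalIdeal.isMaximal R).eq_of_le (Ideal.comap_ne_top _ n.2.ne_top) (Ideal.map_le_iff_le_comap.mp hn)).symm
  have hdepC : ∀ q : PrimeSpectrum C, J ≤ q.asIdeal → q.asIdeal ≤ n.asIdeal →
      q.asIdeal.comap (algebraMap R C) = maximalIdeal R →
      2 ≤ LocCoh.idealDepth (q.asIdeal.map (algebraMap C (EGA4.FibLocRing R C q.asIdeal))) (EGA4.FibLocRing R C q.asIdeal) :=
    fun q hJ hle hm => by exact_mod_cast fibre_depth_of_hasSk 2 n.asIdeal hS2 q hle (hm.trans hnm.symm) (by exact_mod_cast hcodim q hJ)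
  obtain ⟨n₀, m, g, h, hg, hgh, hGU⟩ := exists_presentation J F hFU
  let G := (Fin m → C) ⧸ LinearMap.range h
  let π : (Fin m → C) →ₗ[C] G := (LinearMap.range h).mkQ
  have hhπ : Function.Exact h π := LinearMap.exact_iff.mpr (Submodule.ker_mkQ _)
  have hπ : Function.Surjective π := Submodule.mkQ_surjective _
  have hGfl : ∀ q : PrimeSpectrum C, ¬ J ≤ q.asIdeal → FlatCA.FlatAt R q.asIdeal G := fun q hq => by
    have := hGU q hq
    have : Module.Flat R (Localization.AtPrime q.asIdeal) := Module.Flat.trans R C _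
    exact Module.Flat.trans R (Localization.AtPrime q.asIdeal) _
  haveI : Module.Flat R (Fin n₀ → C) := Module.Flat.trans R C _
  haveI : Module.Flat R (Fin m → C) := Module.Flat.trans R C _
  -- flatness of `G` after reduction to artinian quotients
  have key : ∀ (s : ℕ) (K : Submodule R (R ⧸ maximalIdeal R ^ (s + 1))) (z : G ⊗[R] K),
      K.subtype.lTensor G z = 0 → ∃ c ∉ n.asIdeal, c • z = 0 := by
    intro s K z hz
    let a := maximalIdeal R ^ (s + 1)
    let A' := R ⧸ a
    have hs : Function.Surjective (algebraMap R A') := Ideal.Quotient.mk_surjective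
    have hane : a ≠ ⊤ := fun htop => (maximalIdeal.isMaximal R).ne_top
      (top_le_iff.mp (htop ▸ Ideal.pow_le_self (Nat.succ_ne_zero s)))
    haveI : Nontrivial A' := Ideal.Quotient.nontrivial_iff.mpr hane
    haveI : IsLocalRing A' := IsLocalRing.of_surjective' _ hs
    have hnil : IsNilpotent (maximalIdeal A') := by
      refine ⟨s + 1, ?_⟩
      rw [← IsLocalRing.map_maximalIdeal_of_surjective _ hs, ← Ideal.map_pow, Ideal.zero_eq_bot]
      exact Ideal.map_quotient_self a
    haveI : IsArtinianRing A' := (isArtinianRing_iff_isNilpotent_maximalIdeal A').mpr hnil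
    let C' := C ⊗[R] A'
    have hsC : Function.Surjective (algebraMap C C') := by
      intro x
      induction x using TensorProduct.induction_on with
      | zero => exact ⟨0, map_zero _⟩
      | tmul c l =>
        obtain ⟨r, rfl⟩ := hs l
        refine ⟨r • c, ?_⟩
        show (r • c) ⊗ₜ[R] (1 : A') = _
        rw [Algebra.algebraMap_eq_smul_one r, TensorProduct.smul_tmul]
      | add x y hx hy =>
        obtain ⟨x, rfl⟩ := hx
        obtain ⟨y, rfl⟩ := hy
        exact ⟨x + y, map_add _ _ _⟩
    haveI : IsNoetherianRing C' := isNoetherianRing_of_surjective C C' (algebraMap C C') hsC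
    let ψ : C' →ₐ[R] C ⧸ n.asIdeal := Algebra.TensorProduct.lift (Ideal.Quotient.mkₐ R n.asIdeal)
      (Ideal.Quotient.liftₐ a (Algebra.ofId R (C ⧸ n.asIdeal)) fun r hr => Ideal.Quotient.eq_zero_iff_mem.mpr
        (Ideal.map_le_iff_le_comap.mp hn (Ideal.pow_le_self (Nat.succ_ne_zero s) hr))) fun _ _ => .all _ _
    let q' : Ideal C' := RingHom.ker ψ.toRingHom
    haveI : q'.IsPrime := RingHom.ker_isPrime _
    have hq' : q'.comap (algebraMap C C') = n.asIdeal := by
      ext c
      show ψ (c ⊗ₜ[R] (1 : A')) = 0 ↔ _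
      rw [Algebra.TensorProduct.lift_tmul, map_one, mul_one]
      exact Ideal.Quotient.eq_zero_iff_mem
    obtain ⟨hH, -⟩ := hI A' hs C' inferInstance ⟨q', inferInstance⟩ hq'
    exact artinian_step hs C' hsC J g h π hg hgh hhπ hπ hGU hFU n.asIdeal hdepC q' hq' hH K z hz
  have hG : FlatCA.FlatAt R n.asIdeal G := by
    let Cn := Localization.AtPrime n.asIdeal
    have : IsNoetherianRing Cn := IsLocalization.isNoetherianRing n.asIdeal.primeCompl _ inferInstance
    have : IsLocalHom (algebraMap R Cn) := ((local_hom_TFAE (algebraMap R Cn)).out 2 0 rfl rfl).mp (by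
      rw [IsScalarTower.algebraMap_eq R C Cn, ← Ideal.map_map, ← Localization.AtPrime.map_eq_maximalIdeal (I := n.asIdeal)]
      exact Ideal.map_mono hn)
    have : Module.Finite Cn (LocalizedModule n.asIdeal.primeCompl G) :=
      Module.Finite.of_isLocalizedModule n.asIdeal.primeCompl (LocalizedModule.mkLinearMap n.asIdeal.primeCompl G)
    refine FlatCrit65.flat_of_lexQuot_of_isLocalRing (S := Cn) (I := maximalIdeal R)
      (maximalIdeal.isMaximal R).ne_top fun s => ?_
    intro K
    cases s with
    | zero =>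
      have : Subsingleton (R ⧸ maximalIdeal R ^ 0) := by
        rw [pow_zero, Ideal.one_eq_top]; exact Ideal.Quotient.subsingleton_iff.mpr rfl
      exact fun x y _ => Subsingleton.elim _ _
    | succ s => exact FlatCrit65.injective_lTensor_localized n.asIdeal.primeCompl K.subtype fun z hz => key s K z hz
  have h4 := fun q : PrimeSpectrum C => fun (hle : q.asIdeal ≤ n.asIdeal)
      (hp : q.asIdeal.comap (algebraMap R C) = maximalIdeal R) =>
    four_term_loc (A := R) q.asIdeal J g h π hg hgh hhπ hπ hGfl
      (le_idealDepth_fibLocMod' q.asIdeal J _ 2 fun r hr hrq hrp =>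
        (hdepC r hr (hrq.trans hle) (hrp.trans hp)).trans (fibre_depth_projective r _))
      (le_idealDepth_fibLocMod' q.asIdeal J _ 1 fun r hr hrq hrp =>
        (le_trans (by norm_num) (hdepC r hr (hrq.trans hle) (hrp.trans hp))).trans (fibre_depth_projective r _))
  refine ⟨(h4 n le_rfl hnm).2 hG, hasSk_two_fib J n.asIdeal hS2 F hFU fun q hJ hle hp => ?_⟩
  exact le_trans ((h4 q hle (hp.trans hnm)).1.mpr (FlatCrit65.flat_localized_of_le hle hG))
    (LC17.idealDepth_mono (Ideal.map_mono hJ))

end Groth.Agent.Depth99
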