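import Mathlib.Algebra.Module.FinitePresentation
import Mathlib.RingTheory.TensorProduct.Finite
import Mathlib.RingTheory.LocalRing.Module
import Mathlib.RingTheory.Localization.AtPrime.Basic
import Mathlib.RingTheory.Localization.Finiteness

universe u

open TensorProduct Module

namespace Groth.Agent.Depth99

variable {B : Type u} [CommRing B] {M N : Type u} [AddCommGroup M] [Module B M] [AddCommGroup N] [Module B N]

/-- `f` is invertible at `q` up to a denominator. -/
def QInv (f : M →ₗ[B] N) (q : Ideal B) : Prop :=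
  ∃ (g : N →ₗ[B] M) (s : B), s ∉ q ∧ g ∘ₗ f = s • LinearMap.id ∧ f ∘ₗ g = s • LinearMap.id

theorem qInv_of_loc_bijective [IsNoetherianRing B] [Module.Finite B M] [Module.Finite B N] (f : M →ₗ[B] N)
    (q : Ideal B) [q.IsPrime] (h : Function.Bijective (LocalizedModule.map q.primeCompl f)) : QInv f q := by
  have : Module.FinitePresentation B N := Module.finitePresentation_of_finite B N
  let S := q.primeCompl
  let e := LinearEquiv.ofBijective _ h
  obtain ⟨g, s, H⟩ := Module.FinitePresentation.exists_lift_of_isLocalizedModule S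
    (LocalizedModule.mkLinearMap S M) ((e.symm.toLinearMap.restrictScalars B) ∘ₗ LocalizedModule.mkLinearMap S N)
  have hH : ∀ n, LocalizedModule.mkLinearMap S M (g n) = (s : B) • e.symm (LocalizedModule.mkLinearMap S N n) :=
    fun n => LinearMap.congr_fun H n
  have hmap : ∀ m, LocalizedModule.map S f (LocalizedModule.mkLinearMap S M m) = LocalizedModule.mkLinearMap S N (f m) :=
    fun m => by simp [LocalizedModule.map_mk]
  have H₁ : LocalizedModule.mkLinearMap S N ∘ₗ (f ∘ₗ g) = LocalizedModule.mkLinearMap S N ∘ₗ ((s : B) • LinearMap.id) := by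
    ext n
    simp only [LinearMap.comp_apply, LinearMap.smul_apply, LinearMap.id_apply]
    rw [← hmap, hH, LinearMap.map_smul_of_tower, LinearMap.map_smul]
    exact congrArg _ (e.apply_symm_apply _)
  have H₂ : LocalizedModule.mkLinearMap S M ∘ₗ (g ∘ₗ f) = LocalizedModule.mkLinearMap S M ∘ₗ ((s : B) • LinearMap.id) := by
    ext m
    simp only [LinearMap.comp_apply, LinearMap.smul_apply, LinearMap.id_apply]
    rw [hH, ← hmap, LinearMap.map_smul]
    exact congrArg _ (e.symm_apply_apply _)
  obtain ⟨s₁, h₁⟩ := Module.Finite.exists_smul_of_comp_eq_of_isLocalizedModule S _ _ _ H₁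
  obtain ⟨s₂, h₂⟩ := Module.Finite.exists_smul_of_comp_eq_of_isLocalizedModule S _ _ _ H₂
  refine ⟨((s₁ * s₂ : S) : B) • g, ((s₁ * s₂ * s : S) : B), (s₁ * s₂ * s).2, ?_, ?_⟩
  · simp only [Submonoid.smul_def] at h₂
    rw [LinearMap.smul_comp, Submonoid.coe_mul, Submonoid.coe_mul, mul_smul, h₂]
    simp only [smul_smul]
    congr 1
    push_cast
    ring
  · simp only [Submonoid.smul_def] at h₁
    rw [LinearMap.comp_smul, Submonoid.coe_mul, Submonoid.coe_mul, mul_comm (s₁ : B), mul_smul, h₁]
    simp only [smul_smul]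
    congr 1
    push_cast
    ring

theorem QInv.baseChange {f : M →ₗ[B] N} {q : Ideal B} (h : QInv f q) {B' : Type u} [CommRing B'] [Algebra B B']
    (q' : Ideal B') (hq : q'.comap (algebraMap B B') = q) : QInv (f.baseChange B') q' := by
  obtain ⟨g, s, hs, h1, h2⟩ := h
  refine ⟨g.baseChange B', algebraMap B B' s, fun h => hs (hq ▸ h), ?_, ?_⟩
  · rw [← LinearMap.baseChange_comp, h1, LinearMap.baseChange_smul, LinearMap.baseChange_id, algebraMap_smul]
  · rw [← LinearMap.baseChange_comp, h2, LinearMap.baseChange_smul, LinearMap.baseChange_id, algebraMap_smul]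

theorem QInv.dualMap {f : M →ₗ[B] N} {q : Ideal B} (h : QInv f q) : QInv f.dualMap q := by
  obtain ⟨g, s, hs, h1, h2⟩ := h
  refine ⟨g.dualMap, s, hs, ?_, ?_⟩
  · ext φ x
    have := congrArg φ (LinearMap.congr_fun h2 x)
    simpa [LinearMap.dualMap_apply] using this
  · ext φ x
    have := congrArg φ (LinearMap.congr_fun h1 x)
    simpa [LinearMap.dualMap_apply] using this

theorem QInv.loc_bijective {f : M →ₗ[B] N} {q : Ideal B} [q.IsPrime] (h : QInv f q) :
    Function.Bijective (LocalizedModule.map q.primeCompl f) := by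
  obtain ⟨g, s, hs, h1, h2⟩ := h
  constructor
  · rw [injective_iff_map_eq_zero]
    intro z hz
    induction z using LocalizedModule.induction_on with
    | _ m t =>
      rw [LocalizedModule.map_mk, ← LocalizedModule.zero_mk t, LocalizedModule.mk_eq] at hz
      obtain ⟨c, hc⟩ := hz
      rw [← LocalizedModule.zero_mk t, LocalizedModule.mk_eq]
      refine ⟨c * ⟨s, hs⟩, ?_⟩
      simp only [smul_zero, Submonoid.smul_def, Submonoid.coe_mul] at hc ⊢
      have h3 := congrArg g hc
      simp only [map_smul, map_zero] at h3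
      have h4 := LinearMap.congr_fun h1 m
      simp only [LinearMap.comp_apply, LinearMap.smul_apply, LinearMap.id_apply] at h4
      rw [h4] at h3
      rw [← h3]
      simp only [smul_smul]
      congr 1
      ring
  · intro z
    induction z using LocalizedModule.induction_on with
    | _ n t =>
      refine ⟨LocalizedModule.mk (g n) (⟨s, hs⟩ * t), ?_⟩
      have h4 := LinearMap.congr_fun h2 n
      simp only [LinearMap.comp_apply, LinearMap.smul_apply, LinearMap.id_apply] at h4
      rw [LocalizedModule.map_mk, h4]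
      exact LocalizedModule.mk_cancel_common_left ⟨s, hs⟩ t n

theorem exists_qInv_of_free [IsNoetherianRing B] [Module.Finite B M] (q : Ideal B) [q.IsPrime]
    [Module.Free (Localization.AtPrime q) (LocalizedModule q.primeCompl M)] :
    ∃ (r : ℕ) (f : (Fin r → B) →ₗ[B] M), QInv f q := by
  let S := q.primeCompl
  let Bq := Localization.AtPrime q
  have : Module.Finite Bq (LocalizedModule S M) :=
    Module.Finite.of_isLocalizedModule S (LocalizedModule.mkLinearMap S M)
  let b := Module.finBasis Bq (LocalizedModule S M)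
  have hx : ∀ i, ∃ x : M × S, LocalizedModule.mk x.1 x.2 = b i := fun i =>
    LocalizedModule.induction_on (fun m t => ⟨(m, t), rfl⟩) (b i)
  choose x hx using hx
  let f := (Pi.basisFun B (Fin _)).constr B fun i => (x i).1
  refine ⟨_, f, qInv_of_loc_bijective f q ?_⟩
  let b' : Basis _ Bq (LocalizedModule S M) :=
    b.isUnitSMul (w := fun i => algebraMap B Bq ((x i).2 : B)) fun i => IsLocalization.map_units Bq (x i).2
  let b0 := (Pi.basisFun B (Fin (Module.finrank Bq (LocalizedModule S M)))).ofIsLocalizedModule Bq S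
    (LocalizedModule.mkLinearMap S (Fin (Module.finrank Bq (LocalizedModule S M)) → B))
  have heq : LocalizedModule.map S f = (b0.equiv b' (Equiv.refl _)).toLinearMap := b0.ext fun i => by
    rw [LinearEquiv.coe_coe, Basis.equiv_apply, Equiv.refl_apply, Basis.isUnitSMul_apply]
    simp only [b0, Basis.ofIsLocalizedModule_apply, LocalizedModule.mkLinearMap_apply, LocalizedModule.map_mk]
    rw [LocalizedModule.map_mk, show f (Pi.basisFun B (Fin _) i) = (x i).1 from Basis.constr_basis _ _ _ i, algebraMap_smul, ← hx i,
      LocalizedModule.smul'_mk]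
    exact (LocalizedModule.mk_cancel _ _).symm
  rw [heq]
  exact (b0.equiv b' (Equiv.refl _)).bijective

end Groth.Agent.Depth99
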