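import Groth.Agent.Depth99.FourTermLoc
import Groth.Agent.Depth99.QInv
import Mathlib.LinearAlgebra.TensorProduct.Quotient

universe u

open TensorProduct IsLocalRing

namespace Groth.Agent.Depth99

variable {A B : Type u} [CommRing A] [CommRing B] [Algebra A B] [IsNoetherianRing B]

theorem free_loc_of_projective (M : Type u) [AddCommGroup M] [Module B M] [Module.Finite B M] [Module.Projective B M]
    (q : Ideal B) [q.IsPrime] : Module.Free (Localization.AtPrime q) (LocalizedModule q.primeCompl M) := by
  have : Module.Projective (Localization.AtPrime q) (LocalizedModule q.primeCompl M) :=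
    Module.projective_of_isLocalizedModule q.primeCompl (LocalizedModule.mkLinearMap q.primeCompl M)
  have : Module.Finite (Localization.AtPrime q) (LocalizedModule q.primeCompl M) :=
    Module.Finite.of_isLocalizedModule q.primeCompl (LocalizedModule.mkLinearMap q.primeCompl M)
  have : Module.Flat (Localization.AtPrime q) (LocalizedModule q.primeCompl M) := Module.Flat.of_projective
  exact Module.free_of_flat_of_isLocalRing

theorem fibre_depth_free (q : Ideal B) [q.IsPrime] (a : Ideal B) (M : Type u) [AddCommGroup M] [Module B M]
    [Module.Finite B M] [Module.Free (Localization.AtPrime q) (LocalizedModule q.primeCompl M)] :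
    LocCoh.idealDepth (a.map (algebraMap B (EGA4.FibLocRing A B q))) (EGA4.FibLocRing A B q) ≤
      LocCoh.idealDepth (a.map (algebraMap B (EGA4.FibLocRing A B q))) (EGA4.FibLocMod A B q M) := by
  let Bq := Localization.AtPrime q
  let R := EGA4.FibLocRing A B q
  let Mq := LocalizedModule q.primeCompl M
  have : IsNoetherianRing Bq := IsLocalization.isNoetherianRing q.primeCompl _ inferInstance
  have : Module.Finite Bq Mq :=
    Module.Finite.of_isLocalizedModule q.primeCompl (LocalizedModule.mkLinearMap q.primeCompl M)
  let e : EGA4.FibLocMod A B q M ≃ₗ[Bq] (Fin (Module.finrank Bq Mq) → R) :=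
    ((TensorProduct.quotTensorEquivQuotSMul Mq _).symm.trans
      (TensorProduct.congr (LinearEquiv.refl Bq R) (Module.finBasis Bq Mq).equivFun)).trans
      (TensorProduct.piScalarRight Bq Bq R _)
  rw [← idealDepth_fibLocMod_eq, LC17.idealDepth_congr _ e]
  refine idealDepth_pi _ _ ?_ _
  rw [LC17.idealDepth_map_algebra (B := R) (a.map (algebraMap B Bq)), Ideal.map_map]
  exact le_rfl

theorem fibre_depth_projective (q : PrimeSpectrum B) (M : Type u) [AddCommGroup M] [Module B M] [Module.Finite B M]
    [Module.Projective B M] :
    LocCoh.idealDepth (q.asIdeal.map (algebraMap B (EGA4.FibLocRing A B q.asIdeal))) (EGA4.FibLocRing A B q.asIdeal) ≤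
      LocCoh.idealDepth (q.asIdeal.map (algebraMap B (EGA4.FibLocRing A B q.asIdeal))) (EGA4.FibLocMod A B q.asIdeal M) :=
  have := free_loc_of_projective M q.asIdeal
  fibre_depth_free q.asIdeal q.asIdeal M

/-- the kernel of `u` in an exact `E0 → E1 → G → 0` of projectives is projective -/
theorem projective_ker {E0 E1 G : Type u} [AddCommGroup E0] [Module B E0] [Module.Projective B E0]
    [AddCommGroup E1] [Module B E1] [Module.Projective B E1]
    [AddCommGroup G] [Module B G] [Module.Projective B G] (u : E0 →ₗ[B] E1) (v : E1 →ₗ[B] G)
    (huv : Function.Exact u v) (hv : Function.Surjective v) : Module.Projective B (LinearMap.ker u) := by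
  obtain ⟨σ, hσ⟩ := Module.projective_lifting_property v LinearMap.id hv
  let P := LinearMap.range u
  let π : E1 →ₗ[B] P := (LinearMap.id - σ ∘ₗ v).codRestrict P fun x => by
    refine (huv _).mp ?_
    have := LinearMap.congr_fun hσ (v x)
    simp only [LinearMap.comp_apply, LinearMap.id_apply] at this
    simp [this]
  have hπ : π ∘ₗ P.subtype = LinearMap.id := LinearMap.ext fun ⟨x, hx⟩ => by
    ext
    have : v x = 0 := (huv x).mpr hx
    show x - σ (v x) = x
    rw [this, map_zero, sub_zero]
  have : Module.Projective B P := Module.Projective.of_split P.subtype π hπ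
  obtain ⟨τ, hτ⟩ := Module.projective_lifting_property u.rangeRestrict LinearMap.id u.surjective_rangeRestrict
  let ρ : E0 →ₗ[B] LinearMap.ker u := (LinearMap.id - τ ∘ₗ u.rangeRestrict).codRestrict _ fun x => by
    have := congrArg Subtype.val (LinearMap.congr_fun hτ (u.rangeRestrict x))
    simp only [LinearMap.comp_apply, LinearMap.id_apply, LinearMap.codRestrict_apply] at this
    simp [this]
  refine Module.Projective.of_split (LinearMap.ker u).subtype ρ (LinearMap.ext fun ⟨x, hx⟩ => ?_)
  ext
  have : u.rangeRestrict x = 0 := Subtype.ext hx
  simp [ρ, this]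

/-- the localized kernel is free where `G` is -/
theorem free_ker_loc {E0 E1 G : Type u} [AddCommGroup E0] [Module B E0] [Module.Finite B E0] [Module.Projective B E0]
    [AddCommGroup E1] [Module B E1] [Module.Finite B E1] [Module.Projective B E1]
    [AddCommGroup G] [Module B G] (u : E0 →ₗ[B] E1) (v : E1 →ₗ[B] G)
    (huv : Function.Exact u v) (hv : Function.Surjective v) (q : Ideal B) [q.IsPrime]
    [Module.Free (Localization.AtPrime q) (LocalizedModule q.primeCompl G)] :
    Module.Free (Localization.AtPrime q) (LocalizedModule q.primeCompl (LinearMap.ker u)) := by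
  let S := q.primeCompl
  let Bq := Localization.AtPrime q
  have := free_loc_of_projective E0 q
  have := free_loc_of_projective E1 q
  have h1 := projective_ker (LocalizedModule.map S u) (LocalizedModule.map S v)
    (LocalizedModule.map_exact _ _ _ huv) (LocalizedModule.map_surjective _ _ hv)
  let ι := LocalizedModule.map S (LinearMap.ker u).subtype
  have hinj : Function.Injective ι := LocalizedModule.map_injective _ _ Subtype.val_injective
  have hex : Function.Exact ι (LocalizedModule.map S u) :=
    LocalizedModule.map_exact _ _ _ (LinearMap.exact_iff.mpr (by simp))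
  have e : LocalizedModule S (LinearMap.ker u) ≃ₗ[Bq] LinearMap.ker (LocalizedModule.map S u) :=
    (LinearEquiv.ofInjective ι hinj).trans (LinearEquiv.ofEq _ _ (LinearMap.exact_iff.mp hex).symm)
  have : Module.Projective Bq (LocalizedModule S (LinearMap.ker u)) := Module.Projective.of_equiv e.symm
  have : Module.Finite Bq (LocalizedModule S (LinearMap.ker u)) :=
    Module.Finite.of_isLocalizedModule S (LocalizedModule.mkLinearMap S (LinearMap.ker u))
  have : Module.Flat Bq (LocalizedModule S (LinearMap.ker u)) := Module.Flat.of_projective
  exact Module.free_of_flat_of_isLocalRing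

omit [IsNoetherianRing B] in
theorem QInv.free_loc {M N : Type u} [AddCommGroup M] [Module B M] [AddCommGroup N] [Module B N]
    {f : M →ₗ[B] N} {q : Ideal B} [q.IsPrime] (h : QInv f q)
    [Module.Free (Localization.AtPrime q) (LocalizedModule q.primeCompl M)] :
    Module.Free (Localization.AtPrime q) (LocalizedModule q.primeCompl N) :=
  Module.Free.of_equiv (LinearEquiv.ofBijective _ h.loc_bijective)

/-- freeness at a prime is stable under base change -/
theorem free_loc_baseChange {B' : Type u} [CommRing B'] [IsNoetherianRing B'] [Algebra B B'] (M : Type u)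
    [AddCommGroup M] [Module B M] [Module.Finite B M] (q' : Ideal B') [q'.IsPrime]
    [Module.Free (Localization.AtPrime (q'.comap (algebraMap B B')))
      (LocalizedModule (q'.comap (algebraMap B B')).primeCompl M)] :
    Module.Free (Localization.AtPrime q') (LocalizedModule q'.primeCompl (B' ⊗[B] M)) := by
  obtain ⟨r, f, hf⟩ := exists_qInv_of_free (M := M) (q'.comap (algebraMap B B'))
  have := free_loc_of_projective (B' ⊗[B] (Fin r → B)) q'
  exact (hf.baseChange q' rfl).free_loc

end Groth.Agent.Depth99
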